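import Groth.Agent.ModSt.K599.Rep
import Groth.Agent.Flat2D.LfpComp

/-!
# The scheme of isomorphisms of two modules

From the schemes of homomorphisms `E₂ ⟶ E₁`, `E₁ ⟶ E₂`, `E₁ ⟶ E₁`, `E₂ ⟶ E₂` (over an affine base): the scheme of
isomorphisms, in the language of `LObj`: a morphism `(X_T, E₁) ⟶ (X, E₂)` over `X_T ⟶ X` is cartesian iff the
homomorphism `E₂ ⟶ E₁` over `X_T` is an isomorphism.
-/

set_option autoImplicit false
universe u
open CategoryTheory CategoryTheory.Limits AlgebraicGeometry Opposite TopologicalSpace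

namespace K599.IsoRep

open K599.LMod K599.Rep K927.ModSt

/-- The locus where two morphisms over `U` agree. -/
theorem exists_eq_locus {P Z U : Scheme.{u}} (z : Z ⟶ U) [IsSeparated z] [LocallyOfFiniteType z] (m n : P ⟶ Z)
    (h : m ≫ z = n ≫ z) : ∃ (W : Scheme.{u}) (ι : W ⟶ P), IsClosedImmersion ι ∧ LocallyOfFinitePresentation ι ∧
      ι ≫ m = ι ≫ n ∧ ∀ {T : Scheme.{u}} (t : T ⟶ P), t ≫ m = t ≫ n → ∃ t' : T ⟶ W, t' ≫ ι = t := by
  let l := pullback.lift m n h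
  have : LocallyOfFinitePresentation (pullback.diagonal z) := by
    have : LocallyOfFinitePresentation (pullback.diagonal z ≫ pullback.fst z z) := by
      rw [pullback.diagonal_fst]; infer_instance
    exact Groth.Agent.Flat2D.LfpComp.lfp_of_comp (pullback.diagonal z) (pullback.fst z z)
  refine ⟨pullback l (pullback.diagonal z), pullback.fst _ _, inferInstance, inferInstance, ?_, ?_⟩
  · have h1 : pullback.fst l (pullback.diagonal z) ≫ l = pullback.snd l (pullback.diagonal z) ≫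
      pullback.diagonal z := pullback.condition
    have h2 := congrArg (· ≫ pullback.fst z z) h1
    have h3 := congrArg (· ≫ pullback.snd z z) h1
    simp only [Category.assoc, pullback.diagonal_fst, pullback.diagonal_snd, Category.comp_id, l,
      pullback.lift_fst, pullback.lift_snd] at h2 h3
    exact h2.trans h3.symm
  · intro T t ht
    refine ⟨pullback.lift t (t ≫ m) ?_, pullback.lift_fst _ _ _⟩
    apply pullback.hom_ext
    · rw [Category.assoc, Category.assoc, pullback.lift_fst, pullback.diagonal_fst, Category.comp_id]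
    · rw [Category.assoc, Category.assoc, pullback.lift_snd, pullback.diagonal_snd, Category.comp_id, ht]

theorem cart_ofMap {Y : Scheme.{u}} {M N : Y.Modules} (v : M ⟶ N) [IsIso v] :
    Cart (ofMap v) := by
  exact _root_.ModSt.IsCart.isoComp (cart_id (⟨Y, N⟩ : LObj.{u})) (asIso v)

/-- Inverse morphisms over the identity are cartesian. -/
theorem cart_of_inv {Y : Scheme.{u}} {M N : Y.Modules} (a : (⟨Y, N⟩ : LObj.{u}) ⟶ ⟨Y, M⟩)
    (b : (⟨Y, M⟩ : LObj.{u}) ⟶ ⟨Y, N⟩) (ha : a.top = 𝟙 Y) (hb : b.top = 𝟙 Y) (h1 : a ≫ b = 𝟙 _)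
    (h2 : b ≫ a = 𝟙 _) : Cart a := by
  obtain ⟨v, rfl⟩ := exists_ofMap a ha
  obtain ⟨w, rfl⟩ := exists_ofMap b hb
  rw [← ofMap_comp, ← ofMap_id] at h1 h2
  have : IsIso v := ⟨w, ofMap_injective h2, ofMap_injective h1⟩
  exact cart_ofMap v

variable {X U : Scheme.{u}}

/-- The scheme of isomorphisms. -/
structure IsoR (f : X ⟶ U) (E₁ E₂ : X.Modules) where
  Z : Scheme.{u}
  z : Z ⟶ U
  pt : Pt f E₂ E₁ z
  cart : Cart pt.χ
  univ : ∀ {B : CommRingCat.{u}} {u : Spec B ⟶ U} (s : Pt f E₂ E₁ u), Cart s.χ →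
    ∃! t : Spec B ⟶ Z, t ≫ z = u ∧ pt.Rel s t

variable {f : X ⟶ U} {E₁ E₂ : X.Modules}

/-- The inverse isomorphism. -/
abbrev flip {T : Scheme.{u}} {u : T ⟶ U} (s : Pt f E₂ E₁ u) (hs : Cart s.χ) : Pt f E₁ E₂ u :=
  ⟨s.y, s.χ, s.q, by rw [s.top]; exact s.sq, hs, s.γ, s.top.symm⟩

theorem Rel.flip {T T' : Scheme.{u}} {u : T ⟶ U} {u' : T' ⟶ U} {s : Pt f E₂ E₁ u} {s' : Pt f E₂ E₁ u'}
    {t : T' ⟶ T} (h : s.Rel s' t) (hs : Cart s.χ) (hs' : Cart s'.χ) : (flip s hs).Rel (flip s' hs') t := by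
  obtain ⟨β, h1, h2, h3⟩ := h
  exact ⟨β, h3, h2, h1⟩

/-- The identity. -/
abbrev one {T : Scheme.{u}} {u : T ⟶ U} {E : X.Modules} (y : LObj.{u}) (γ : y ⟶ ⟨X, E⟩) (q : y.Y ⟶ T)
    (sq : IsPullback γ.top q f u) (cart : Cart γ) : Pt f E E u :=
  ⟨y, γ, q, sq, cart, γ, rfl⟩

theorem Rel.eq_of {T T' : Scheme.{u}} {u : T ⟶ U} {u' : T' ⟶ U} {E G : X.Modules} {s : Pt f E G u}
    {y : LObj.{u}} {γ : y ⟶ ⟨X, G⟩} {q : y.Y ⟶ T'} {sq : IsPullback γ.top q f u'} {cart : Cart γ}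
    {χ χ' : y ⟶ ⟨X, E⟩} {h : χ.top = γ.top} {h' : χ'.top = γ.top} {t : T' ⟶ T}
    (H : s.Rel ⟨y, γ, q, sq, cart, χ, h⟩ t) (H' : s.Rel ⟨y, γ, q, sq, cart, χ', h'⟩ t) : χ = χ' := by
  obtain ⟨β, h1, h2, h3⟩ := H
  exact h3.symm.trans (H'.unique_beta β h1 h2)

/-- **The scheme of isomorphisms from the schemes of homomorphisms.** -/
theorem exists_isoRep [IsAffine U] (R12 : HomRep f E₂ E₁) (R21 : HomRep f E₁ E₂) (R11 : HomRep f E₁ E₁)
    (R22 : HomRep f E₂ E₂) [IsAffineHom R12.z] [IsAffineHom R21.z] [IsAffineHom R11.z] [IsAffineHom R22.z]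
    [LocallyOfFinitePresentation R12.z] [LocallyOfFinitePresentation R21.z]
    [LocallyOfFinitePresentation R11.z] [LocallyOfFinitePresentation R22.z] :
    ∃ R : IsoR f E₁ E₂, IsAffineHom R.z ∧ LocallyOfFinitePresentation R.z := by
  let P := pullback R12.z R21.z
  let p12 : P ⟶ R12.Z := pullback.fst _ _
  let p21 : P ⟶ R21.Z := pullback.snd _ _
  let p : P ⟶ U := p12 ≫ R12.z
  have hp : p21 ≫ R21.z = p := pullback.condition.symm
  have : IsAffineHom (pullback.fst R12.z R21.z) := MorphismProperty.pullback_fst _ _ ‹IsAffineHom R21.z›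
  have : IsAffineHom (pullback.fst R12.z R21.z ≫ R12.z) := MorphismProperty.comp_mem _ _ _ this ‹IsAffineHom R12.z›
  have : IsAffineHom p := this
  have : LocallyOfFinitePresentation (pullback.fst R12.z R21.z ≫ R12.z) := inferInstance
  have : LocallyOfFinitePresentation p := this
  have : IsAffine P := isAffine_of_isAffineHom p
  let g := pullback.fst f p
  let q := pullback.snd f p
  have sqP : IsPullback g q f p := IsPullback.of_hasPullback f p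
  let γ1 := pbHom (⟨X, E₁⟩ : LObj.{u}) g
  let γ2 := pbHom (⟨X, E₂⟩ : LObj.{u}) g
  have c1 : Cart γ1 := cart_pbHom _ _
  have c2 : Cart γ2 := cart_pbHom _ _
  obtain ⟨χ12, t12, r12⟩ := R12.pt.exists_restrict p12 rfl γ1 sqP c1
  obtain ⟨χ21, t21, r21⟩ := R21.pt.exists_restrict p21 hp γ2 sqP c2
  have t12' : 𝟙 _ ≫ γ2.top = χ12.top := by rw [t12]; exact Category.id_comp _
  have t21' : 𝟙 _ ≫ γ1.top = χ21.top := by rw [t21]; exact Category.id_comp _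
  let a := c2.lift χ12 (𝟙 _) t12'
  have at_ : a.top = 𝟙 _ := c2.lift_top _ _ _
  have a1 : a ≫ γ2 = χ12 := c2.lift_comp _ _ _
  let b := c1.lift χ21 (𝟙 _) t21'
  have bt : b.top = 𝟙 _ := c1.lift_top _ _ _
  have b1 : b ≫ γ1 = χ21 := c1.lift_comp _ _ _
  have wq : g ≫ f = q ≫ p := sqP.w
  -- the four points of the schemes of endomorphisms
  have tab : (a ≫ b ≫ γ1).top = γ1.top := by
    change a.top ≫ b.top ≫ γ1.top = γ1.top
    rw [at_, bt, Category.id_comp]; exact Category.id_comp _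
  have tba : (b ≫ a ≫ γ2).top = γ2.top := by
    change b.top ≫ a.top ≫ γ2.top = γ2.top
    rw [at_, bt, Category.id_comp]; exact Category.id_comp _
  obtain ⟨m1, ⟨m1z, m1r⟩, -⟩ := R11.univ_affine (⟨_, γ1, q, sqP, c1, a ≫ b ≫ γ1, tab⟩ : Pt f E₁ E₁ p)
  obtain ⟨n1, ⟨n1z, n1r⟩, -⟩ := R11.univ_affine (⟨_, γ1, q, sqP, c1, γ1, rfl⟩ : Pt f E₁ E₁ p)
  obtain ⟨m2, ⟨m2z, m2r⟩, -⟩ := R22.univ_affine (⟨_, γ2, q, sqP, c2, b ≫ a ≫ γ2, tba⟩ : Pt f E₂ E₂ p)
  obtain ⟨n2, ⟨n2z, n2r⟩, -⟩ := R22.univ_affine (⟨_, γ2, q, sqP, c2, γ2, rfl⟩ : Pt f E₂ E₂ p)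
  obtain ⟨W1, ι1, hι1, hι1', e1, l1⟩ := exists_eq_locus R11.z m1 n1 (m1z.trans n1z.symm)
  obtain ⟨W, ι2, hι2, hι2', e2, l2⟩ := exists_eq_locus R22.z (ι1 ≫ m2) (ι1 ≫ n2) (by
    rw [Category.assoc, Category.assoc, m2z, n2z])
  let j : W ⟶ P := ι2 ≫ ι1
  have hj : IsClosedImmersion (ι2 ≫ ι1) := inferInstance
  have hj' : Mono j := (inferInstance : Mono (ι2 ≫ ι1))
  let w : W ⟶ U := j ≫ p
  have hw : IsAffineHom w := by
    have : IsAffineHom ((ι2 ≫ ι1) ≫ p) := inferInstance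
    exact this
  have hw' : LocallyOfFinitePresentation w := by
    have : LocallyOfFinitePresentation ((ι2 ≫ ι1) ≫ p) := inferInstance
    exact this
  have ej1 : j ≫ m1 = j ≫ n1 := by rw [Category.assoc, e1, ← Category.assoc]
  have ej2 : j ≫ m2 = j ≫ n2 := by rw [Category.assoc, e2, ← Category.assoc]
  -- the universal point
  let gW := pullback.fst f w
  let qW := pullback.snd f w
  have sqW : IsPullback gW qW f w := IsPullback.of_hasPullback f w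
  let g1 := pbHom (⟨X, E₁⟩ : LObj.{u}) gW
  let g2 := pbHom (⟨X, E₂⟩ : LObj.{u}) gW
  have cg1 : Cart g1 := cart_pbHom _ _
  have cg2 : Cart g2 := cart_pbHom _ _
  obtain ⟨δ1, ⟨d1, d1'⟩, -⟩ := existsUnique_beta sqP c1 g1 sqW j rfl
  obtain ⟨δ2, ⟨d2, d2'⟩, -⟩ := existsUnique_beta sqP c2 g2 sqW j rfl
  have cδ1 : Cart δ1 := c1.of_comp (by rw [d1]; exact cg1)
  have cδ2 : Cart δ2 := c2.of_comp (by rw [d2]; exact cg2)
  have td1 : δ1.top ≫ g = gW := congrArg LObj.Hom.top d1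
  have td2 : δ2.top ≫ g = gW := congrArg LObj.Hom.top d2
  have tdd : δ1.top = δ2.top := sqP.hom_ext (td1.trans td2.symm) (d1'.trans d2'.symm)
  have tab' : ((δ1 ≫ a ≫ b) ≫ γ1).top = g1.top := by
    change (δ1.top ≫ a.top ≫ b.top) ≫ g = gW
    rw [at_, bt, Category.comp_id]
    exact (congrArg (· ≫ g) (Category.comp_id δ1.top)).trans td1
  have tba' : ((δ2 ≫ b ≫ a) ≫ γ2).top = g2.top := by
    change (δ2.top ≫ b.top ≫ a.top) ≫ g = gW
    rw [at_, bt, Category.comp_id]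
    exact (congrArg (· ≫ g) (Category.comp_id δ2.top)).trans td2
  have k1 : (δ1 ≫ a ≫ b) ≫ γ1 = δ1 ≫ γ1 := by
    have h1 : R11.pt.Rel (⟨_, g1, qW, sqW, cg1, (δ1 ≫ a ≫ b) ≫ γ1, tab'⟩ : Pt f E₁ E₁ w) (j ≫ m1) :=
      m1r.comp ⟨δ1, d1, d1', by simp only [Category.assoc]⟩
    have h2 : R11.pt.Rel (⟨_, g1, qW, sqW, cg1, δ1 ≫ γ1, congrArg LObj.Hom.top d1⟩ : Pt f E₁ E₁ w) (j ≫ n1) :=
      n1r.comp ⟨δ1, d1, d1', rfl⟩
    rw [ej1] at h1
    exact Rel.eq_of h1 h2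
  have k2 : (δ2 ≫ b ≫ a) ≫ γ2 = δ2 ≫ γ2 := by
    have h1 : R22.pt.Rel (⟨_, g2, qW, sqW, cg2, (δ2 ≫ b ≫ a) ≫ γ2, tba'⟩ : Pt f E₂ E₂ w) (j ≫ m2) :=
      m2r.comp ⟨δ2, d2, d2', by simp only [Category.assoc]⟩
    have h2 : R22.pt.Rel (⟨_, g2, qW, sqW, cg2, δ2 ≫ γ2, congrArg LObj.Hom.top d2⟩ : Pt f E₂ E₂ w) (j ≫ n2) :=
      n2r.comp ⟨δ2, d2, d2', rfl⟩
    rw [ej2] at h1
    exact Rel.eq_of h1 h2
  have k1' : δ1 ≫ a ≫ b = δ1 := by
    refine c1.hom_ext' ?_ k1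
    change δ1.top ≫ a.top ≫ b.top = δ1.top
    rw [at_, bt, Category.comp_id]; exact Category.comp_id _
  have k2' : δ2 ≫ b ≫ a = δ2 := by
    refine c2.hom_ext' ?_ k2
    change δ2.top ≫ b.top ≫ a.top = δ2.top
    rw [at_, bt, Category.comp_id]; exact Category.comp_id _
  have ta' : 𝟙 _ ≫ δ2.top = (δ1 ≫ a).top := by
    change 𝟙 _ ≫ δ2.top = δ1.top ≫ a.top
    rw [at_, ← tdd, Category.id_comp]; exact (Category.comp_id _).symm
  have tb' : 𝟙 _ ≫ δ1.top = (δ2 ≫ b).top := by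
    change 𝟙 _ ≫ δ1.top = δ2.top ≫ b.top
    rw [bt, tdd, Category.id_comp]; exact (Category.comp_id _).symm
  let a' := cδ2.lift (δ1 ≫ a) (𝟙 _) ta'
  have a't : a'.top = 𝟙 _ := cδ2.lift_top _ _ _
  have a'1 : a' ≫ δ2 = δ1 ≫ a := cδ2.lift_comp _ _ _
  let b' := cδ1.lift (δ2 ≫ b) (𝟙 _) tb'
  have b't : b'.top = 𝟙 _ := cδ1.lift_top _ _ _
  have b'1 : b' ≫ δ1 = δ2 ≫ b := cδ1.lift_comp _ _ _
  have ca' : Cart a' := by
    refine cart_of_inv a' b' a't b't ?_ ?_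
    · apply cδ1.hom_ext'
      · change a'.top ≫ b'.top = 𝟙 _
        rw [a't, b't]; exact Category.comp_id _
      · rw [Category.assoc, b'1, ← Category.assoc, a'1, Category.assoc, k1', Category.id_comp]
    · apply cδ2.hom_ext'
      · change b'.top ≫ a'.top = 𝟙 _
        rw [a't, b't]; exact Category.comp_id _
      · rw [Category.assoc, a'1, ← Category.assoc, b'1, Category.assoc, k2', Category.id_comp]
  have hχW : δ1 ≫ χ12 = a' ≫ g2 := by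
    rw [← d2, ← Category.assoc, a'1, Category.assoc, a1]
  have cχW : Cart (δ1 ≫ χ12) := by rw [hχW]; exact ca'.comp cg2
  have tχW : (δ1 ≫ χ12).top = g1.top := by
    change δ1.top ≫ χ12.top = gW
    rw [t12]; exact td1
  let ptW : Pt f E₂ E₁ w := ⟨_, g1, qW, sqW, cg1, δ1 ≫ χ12, tχW⟩
  have rW : (⟨_, γ1, q, sqP, c1, χ12, t12⟩ : Pt f E₂ E₁ p).Rel ptW j := ⟨δ1, d1, d1', rfl⟩
  have rW' : (⟨_, γ2, q, sqP, c2, χ21, t21⟩ : Pt f E₁ E₂ p).Rel (flip ptW cχW) j := by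
    refine ⟨δ1 ≫ a, ?_, ?_, ?_⟩
    · rw [Category.assoc, a1]
    · change (δ1.top ≫ a.top) ≫ q = qW ≫ j
      rw [at_, ← d1']
      exact congrArg (· ≫ q) (Category.comp_id _)
    · change (δ1 ≫ a) ≫ χ21 = g1
      rw [← b1, ← d1]
      rw [← k1, Category.assoc, Category.assoc, Category.assoc]
  refine ⟨⟨W, w, ptW, cχW, ?_⟩, hw, hw'⟩
  intro B u s hs
  obtain ⟨τ12, ⟨z12, ρ12⟩, u12⟩ := R12.univ s
  obtain ⟨τ21, ⟨z21, ρ21⟩, u21⟩ := R21.univ (flip s hs)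
  let t : Spec B ⟶ P := pullback.lift τ12 τ21 (z12.trans z21.symm)
  have tp12 : t ≫ p12 = τ12 := pullback.lift_fst _ _ _
  have tp21 : t ≫ p21 = τ21 := pullback.lift_snd _ _ _
  have tp : t ≫ p = u := by rw [← z12, ← tp12, Category.assoc]
  have s12 : (⟨_, γ1, q, sqP, c1, χ12, t12⟩ : Pt f E₂ E₁ p).Rel s t :=
    r12.of_comp (by rw [tp12]; exact ρ12) rfl tp
  have s21 : (⟨_, γ2, q, sqP, c2, χ21, t21⟩ : Pt f E₁ E₂ p).Rel (flip s hs) t :=
    r21.of_comp (by rw [tp21]; exact ρ21) hp tp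
  obtain ⟨β1, p1, p1', p1''⟩ := s12
  obtain ⟨β2, p2, p2', p2''⟩ := s21
  have tβ : β1.top = β2.top := by
    apply sqP.hom_ext
    · exact (congrArg LObj.Hom.top p1).trans (s.top.symm.trans (congrArg LObj.Hom.top p2).symm)
    · exact p1'.trans p2'.symm
  have βa : β1 ≫ a = β2 := by
    apply c2.hom_ext'
    · change β1.top ≫ a.top = β2.top
      rw [at_, ← tβ]; exact Category.comp_id _
    · rw [Category.assoc, a1]; exact p1''.trans p2.symm
  have βb : β2 ≫ b = β1 := by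
    apply c1.hom_ext'
    · change β2.top ≫ b.top = β1.top
      rw [bt, tβ]; exact Category.comp_id _
    · rw [Category.assoc, b1]; exact p2''.trans p1.symm
  have tm1 : t ≫ m1 = t ≫ n1 := by
    let s₁ : Pt f E₁ E₁ u := ⟨s.y, s.γ, s.q, s.sq, s.cart, s.γ, rfl⟩
    refine (R11.univ s₁).unique ⟨by rw [Category.assoc, m1z, tp], ?_⟩ ⟨by rw [Category.assoc, n1z, tp], ?_⟩
    · refine m1r.comp ⟨β1, p1, p1', ?_⟩
      change β1 ≫ a ≫ b ≫ γ1 = s.γ
      rw [← Category.assoc, βa, ← Category.assoc, βb, p1]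
    · exact n1r.comp ⟨β1, p1, p1', p1⟩
  have tm2 : t ≫ m2 = t ≫ n2 := by
    let s₂ : Pt f E₂ E₂ u := ⟨s.y, s.χ, s.q, (flip s hs).sq, hs, s.χ, rfl⟩
    refine (R22.univ s₂).unique ⟨by rw [Category.assoc, m2z, tp], ?_⟩ ⟨by rw [Category.assoc, n2z, tp], ?_⟩
    · refine m2r.comp ⟨β2, p2, p2', ?_⟩
      change β2 ≫ b ≫ a ≫ γ2 = s.χ
      rw [← Category.assoc, βb, ← Category.assoc, βa, p2]
    · exact n2r.comp ⟨β2, p2, p2', p2⟩
  obtain ⟨t1, ht1⟩ := l1 t tm1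
  obtain ⟨t', ht'⟩ := l2 t1 (by rw [reassoc_of% ht1, reassoc_of% ht1, tm2])
  have ht'j : t' ≫ j = t := by rw [← ht1, ← ht', Category.assoc]
  refine ⟨t', ⟨by rw [← tp, ← ht'j, Category.assoc], ?_⟩, ?_⟩
  · exact rW.of_comp (by rw [ht'j]; exact ⟨β1, p1, p1', p1''⟩) rfl (by rw [← tp, ← ht'j, Category.assoc])
  · rintro t'' ⟨h1, h2⟩
    have h3 : (t'' ≫ j) ≫ p12 = τ12 := u12 _ ⟨by rw [Category.assoc, Category.assoc]; exact h1,
      r12.comp (rW.comp h2)⟩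
    have h4 : (t'' ≫ j) ≫ p21 = τ21 := u21 _ ⟨by rw [Category.assoc, hp, Category.assoc]; exact h1,
      r21.comp (rW'.comp (Rel.flip h2 cχW hs))⟩
    rw [← cancel_mono j, ht'j]
    apply pullback.hom_ext
    · exact h3.trans tp12.symm
    · exact h4.trans tp21.symm

end K599.IsoRep
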