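import Groth.Agent.ModSt.K599.Rep

/-!
# The scheme of homomorphisms: base change, and reduction to a closed subscheme
-/

set_option autoImplicit false
universe u
open CategoryTheory CategoryTheory.Limits AlgebraicGeometry Opposite TopologicalSpace

namespace K599.RepBC

open K599.LMod K599.Rep K927.ModSt

section BaseChange

variable {X₀ U₀ X U : Scheme.{u}} {f₀ : X₀ ⟶ U₀} {f : X ⟶ U} {u₀ : U ⟶ U₀} {E₀ G₀ : X₀.Modules} {E G : X.Modules}

/-- The scheme of homomorphisms commutes with base change. -/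
theorem exists_baseChange (R : HomRep f₀ E₀ G₀) (gG : (⟨X, G⟩ : LObj.{u}) ⟶ ⟨X₀, G₀⟩)
    (gE : (⟨X, E⟩ : LObj.{u}) ⟶ ⟨X₀, E₀⟩) (h : gE.top = gG.top) (sq : IsPullback gG.top f f₀ u₀)
    (hG : Cart gG) (hE : Cart gE) :
    ∃ R' : HomRep f E G, ∃ a : R'.Z ⟶ R.Z, IsPullback a R'.z R.z u₀ := by
  let Z := pullback R.z u₀
  let a : Z ⟶ R.Z := pullback.fst R.z u₀
  let z : Z ⟶ U := pullback.snd R.z u₀
  have haz : a ≫ R.z = z ≫ u₀ := pullback.condition
  let γ := pbHom (⟨X, G⟩ : LObj.{u}) (pullback.fst f z)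
  let q := pullback.snd f z
  have cγ : Cart γ := cart_pbHom _ _
  have sqZ : IsPullback γ.top q f z := IsPullback.of_hasPullback f z
  have sq0 : IsPullback (γ ≫ gG).top q f₀ (z ≫ u₀) := sqZ.paste_horiz sq
  obtain ⟨χ', h', hRel⟩ := R.pt.exists_restrict a haz (γ ≫ gG) sq0 (cγ.comp hG)
  have ht1 : γ.top ≫ gE.top = χ'.top := by rw [h', h]; rfl
  let χ := hE.lift χ' γ.top ht1
  have hχ : χ ≫ gE = χ' := hE.lift_comp χ' γ.top ht1
  let pt : Pt f E G z := ⟨_, γ, q, sqZ, cγ, χ, hE.lift_top χ' γ.top ht1⟩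
  refine ⟨⟨Z, z, pt, ?_⟩, a, IsPullback.of_hasPullback _ _⟩
  intro B v s
  let s0 : Pt f₀ E₀ G₀ (v ≫ u₀) := ⟨s.y, s.γ ≫ gG, s.q, s.sq.paste_horiz sq, s.cart.comp hG, s.χ ≫ gE, by
    change s.χ.top ≫ gE.top = s.γ.top ≫ gG.top
    rw [s.top, h]⟩
  have key : ∀ t : Spec B ⟶ Z, t ≫ z = v → (pt.Rel s t ↔ R.pt.Rel s0 (t ≫ a)) := by
    intro t ht
    constructor
    · rintro ⟨β, h1, h2, h3⟩
      refine Pt.Rel.comp hRel ⟨β, ?_, h2, ?_⟩
      · change β ≫ γ ≫ gG = s.γ ≫ gG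
        rw [← h1, Category.assoc]
      · change β ≫ χ' = s.χ ≫ gE
        rw [← h3, ← hχ, Category.assoc]
    · intro hh
      obtain ⟨β, ⟨h1, h2⟩, -⟩ := existsUnique_beta sqZ cγ s.γ s.sq t ht
      have h3 := hRel.of_comp hh haz (show t ≫ z ≫ u₀ = v ≫ u₀ by rw [reassoc_of% ht])
      have h4 : β ≫ χ' = s.χ ≫ gE := h3.unique_beta β (by
        change β ≫ γ ≫ gG = s.γ ≫ gG
        rw [← h1, Category.assoc]) h2
      refine ⟨β, h1, h2, ?_⟩
      apply hE.hom_ext'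
      · change β.top ≫ χ.top = s.χ.top
        rw [show χ.top = γ.top from hE.lift_top χ' γ.top ht1, s.top, ← h1]
        rfl
      · change (β ≫ χ) ≫ gE = s.χ ≫ gE
        rw [Category.assoc, hχ, h4]
  obtain ⟨t0, ⟨h1, h2⟩, h3⟩ := R.univ s0
  refine ⟨pullback.lift t0 v h1, ⟨pullback.lift_snd _ _ _, ?_⟩, ?_⟩
  · rw [key _ (pullback.lift_snd _ _ _)]
    rw [show pullback.lift t0 v h1 ≫ a = t0 from pullback.lift_fst _ _ _]
    exact h2
  · rintro t ⟨h4, h5⟩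
    have h6 := h3 (t ≫ a) ⟨by rw [Category.assoc, haz, reassoc_of% h4], (key t h4).1 h5⟩
    apply pullback.hom_ext
    · rw [pullback.lift_fst]; exact h6
    · rw [pullback.lift_snd]; exact h4

end BaseChange

section Opc

/-- Extension along a morphism whose comparison map is an isomorphism. -/
theorem existsUnique_ext {A B C : LObj.{u}} (φ : A ⟶ B) (hφ : IsIso φ.c) (ψ : A ⟶ C) (t : B.Y ⟶ C.Y)
    (h : φ.top ≫ t = ψ.top) : ∃! χ : B ⟶ C, χ.top = t ∧ φ ≫ χ = ψ := by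
  obtain ⟨p, c⟩ := ψ
  obtain rfl : φ.top ≫ t = p := h
  let c' : C.M ⟶ (Scheme.Modules.pushforward t).obj B.M :=
    c ≫ (Scheme.Modules.pushforwardComp φ.top t).inv.app A.M ≫ (Scheme.Modules.pushforward t).map (inv φ.c)
  have hc : ∀ d : C.M ⟶ (Scheme.Modules.pushforward t).obj B.M, d ≫ (Scheme.Modules.pushforward t).map φ.c ≫
      (Scheme.Modules.pushforwardComp φ.top t).hom.app A.M = c ↔ d = c' := by
    intro d
    constructor
    · rintro rfl
      simp only [c', Category.assoc, Iso.hom_inv_id_app_assoc]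
      rw [← Functor.map_comp, IsIso.hom_inv_id, CategoryTheory.Functor.map_id, Category.comp_id]
    · rintro rfl
      simp only [c', Category.assoc]
      rw [← Functor.map_comp_assoc, IsIso.inv_hom_id, CategoryTheory.Functor.map_id, Category.id_comp,
        Iso.inv_hom_id_app, Category.comp_id]
  refine ⟨⟨t, c'⟩, ⟨rfl, ?_⟩, ?_⟩
  · exact congrArg (fun c => (⟨φ.top ≫ t, c⟩ : A ⟶ C)) ((hc c').2 rfl)
  · rintro ⟨t', d⟩ ⟨h1, h2⟩
    obtain rfl : t' = t := h1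
    have h3 : d ≫ (Scheme.Modules.pushforward t').map φ.c ≫
      (Scheme.Modules.pushforwardComp φ.top t').hom.app A.M = c := by
      injection h2 with _ h4
    exact congrArg (fun c => (⟨t', c⟩ : B ⟶ C)) ((hc d).1 h3)

theorem ext_of_isIso {A B C : LObj.{u}} {φ : A ⟶ B} (hφ : IsIso φ.c) {χ χ' : B ⟶ C} (h : χ.top = χ'.top)
    (h' : φ ≫ χ = φ ≫ χ') : χ = χ' :=
  (existsUnique_ext φ hφ (φ ≫ χ') χ'.top rfl).unique ⟨h, h'⟩ ⟨rfl, rfl⟩

/-- The comparison map of a cartesian morphism is an isomorphism when the unit is. -/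
theorem isIso_c {A B : LObj.{u}} {φ : A ⟶ B} (hφ : Cart φ)
    (h : IsIso ((Scheme.Modules.pullbackPushforwardAdjunction φ.top).unit.app B.M)) : IsIso φ.c := by
  have h1 : IsIso (((Scheme.Modules.pullbackPushforwardAdjunction φ.top).homEquiv _ _).symm φ.c) :=
    (isCart_iff φ.c).1 hφ
  have h2 : φ.c = (Scheme.Modules.pullbackPushforwardAdjunction φ.top).unit.app B.M ≫
      (Scheme.Modules.pushforward φ.top).map
        (((Scheme.Modules.pullbackPushforwardAdjunction φ.top).homEquiv _ _).symm φ.c) := by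
    refine (Equiv.apply_symm_apply ((Scheme.Modules.pullbackPushforwardAdjunction φ.top).homEquiv _ _) φ.c).symm.trans ?_
    rw [Adjunction.homEquiv_unit]
  rw [h2]
  infer_instance

end Opc

section Closed

variable {W X U : Scheme.{u}} {f : X ⟶ U} {E G : X.Modules} (i : W ⟶ X)

/-- Reduction to a closed subscheme: `G` and all its base changes are supported on `W`. -/
theorem exists_of_closed
    (hunit : ∀ {Y' W' : Scheme.{u}} (k : Y' ⟶ X) (i' : W' ⟶ Y') (k' : W' ⟶ W), IsPullback k' i' i k →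
      ∀ M : Y'.Modules, Nonempty (M ≅ (Scheme.Modules.pullback k).obj G) →
        IsIso ((Scheme.Modules.pullbackPushforwardAdjunction i').unit.app M))
    (R : HomRep (i ≫ f) ((Scheme.Modules.pullback i).obj E) ((Scheme.Modules.pullback i).obj G)) :
    ∃ R' : HomRep f E G, ∀ P : MorphismProperty Scheme.{u}, P R.z → P R'.z := by
  have hunit' : ∀ {C : LObj.{u}} (k : C ⟶ (⟨X, G⟩ : LObj.{u})) (hk : Cart k) {D : LObj.{u}} (φ : D ⟶ C)
      (hφ : Cart φ) (k' : D.Y ⟶ W), IsPullback k' φ.top i k.top → IsIso φ.c := by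
    intro C k hk D φ hφ k' sq
    refine isIso_c hφ (hunit k.top φ.top k' sq C.M ?_)
    have h1 : IsIso (((Scheme.Modules.pullbackPushforwardAdjunction k.top).homEquiv _ _).symm k.c) :=
      (isCart_iff k.c).1 hk
    exact ⟨(asIso (((Scheme.Modules.pullbackPushforwardAdjunction k.top).homEquiv _ _).symm k.c)).symm⟩
  let πG := pbHom (⟨X, G⟩ : LObj.{u}) i
  let πE := pbHom (⟨X, E⟩ : LObj.{u}) i
  have cG : Cart πG := cart_pbHom _ _
  have cE : Cart πE := cart_pbHom _ _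
  let z := R.z
  let γ := pbHom (⟨X, G⟩ : LObj.{u}) (pullback.fst f z)
  let q := pullback.snd f z
  have cγ : Cart γ := cart_pbHom _ _
  have sqZ : IsPullback γ.top q f z := IsPullback.of_hasPullback f z
  have w1 : (R.pt.γ ≫ πG).top ≫ f = R.pt.q ≫ z := by
    change (R.pt.γ.top ≫ i) ≫ f = R.pt.q ≫ z
    rw [Category.assoc]
    exact R.pt.sq.w
  let φ : R.pt.y ⟶ pb (⟨X, G⟩ : LObj.{u}) (pullback.fst f z) :=
    cγ.lift (R.pt.γ ≫ πG) (sqZ.lift _ _ w1) (sqZ.lift_fst _ _ w1)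
  have hφt : φ.top = sqZ.lift _ _ w1 := cγ.lift_top _ _ _
  have hφγ : φ ≫ γ = R.pt.γ ≫ πG := cγ.lift_comp _ _ _
  have hφq : φ.top ≫ q = R.pt.q := by rw [hφt]; exact sqZ.lift_snd _ _ w1
  have cφ : Cart φ := cγ.of_comp (by rw [hφγ]; exact R.pt.cart.comp cG)
  have sqφ : IsPullback R.pt.γ.top φ.top i γ.top := by
    refine IsPullback.of_bot (v₂₁ := q) (v₂₂ := f) (h₃₁ := z) ?_ ?_ sqZ
    · rw [hφq]; exact R.pt.sq
    · exact (congrArg LObj.Hom.top hφγ).symm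
  have iφ : IsIso φ.c := hunit' γ cγ φ cφ R.pt.γ.top sqφ
  have w2 : φ.top ≫ γ.top = (R.pt.χ ≫ πE).top := by
    have h1 : φ.top ≫ γ.top = R.pt.γ.top ≫ i := congrArg LObj.Hom.top hφγ
    rw [h1]
    change _ = R.pt.χ.top ≫ i
    rw [R.pt.top]
  obtain ⟨χ, ⟨hχt, hχ⟩, -⟩ := existsUnique_ext φ iφ (R.pt.χ ≫ πE) γ.top w2
  let pt : Pt f E G z := ⟨_, γ, q, sqZ, cγ, χ, hχt⟩
  refine ⟨⟨R.Z, z, pt, ?_⟩, fun P hP => hP⟩
  intro B u s
  let W' := pullback i s.γ.top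
  let k' : W' ⟶ W := pullback.fst i s.γ.top
  let i' : W' ⟶ s.y.Y := pullback.snd i s.γ.top
  have sq' : IsPullback k' i' i s.γ.top := IsPullback.of_hasPullback _ _
  let φ' := pbHom s.y i'
  have cφ' : Cart φ' := cart_pbHom _ _
  have iφ' : IsIso φ'.c := hunit' s.γ s.cart φ' cφ' k' sq'
  let γ' := cG.lift (φ' ≫ s.γ) k' sq'.w
  have hγ't : γ'.top = k' := cG.lift_top _ _ _
  have hγ' : γ' ≫ πG = φ' ≫ s.γ := cG.lift_comp _ _ _
  have cγ' : Cart γ' := cG.of_comp (by rw [hγ']; exact cφ'.comp s.cart)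
  have w3 : k' ≫ πE.top = (φ' ≫ s.χ).top := by
    change k' ≫ i = i' ≫ s.χ.top
    rw [s.top]; exact sq'.w
  let χ' := cE.lift (φ' ≫ s.χ) k' w3
  have hχ't : χ'.top = k' := cE.lift_top _ _ _
  have hχ' : χ' ≫ πE = φ' ≫ s.χ := cE.lift_comp _ _ _
  have sq'' : IsPullback γ'.top (i' ≫ s.q) (i ≫ f) u := by
    rw [hγ't]; exact sq'.paste_vert s.sq
  let sW : Pt (i ≫ f) ((Scheme.Modules.pullback i).obj E) ((Scheme.Modules.pullback i).obj G) u :=
    ⟨_, γ', i' ≫ s.q, sq'', cγ', χ', hχ't.trans hγ't.symm⟩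
  have key : ∀ t : Spec B ⟶ R.Z, t ≫ z = u → (pt.Rel s t ↔ R.pt.Rel sW t) := by
    intro t ht
    obtain ⟨β, ⟨b1, b2⟩, -⟩ := existsUnique_beta sqZ cγ s.γ s.sq t ht
    obtain ⟨βW, ⟨c1, c2⟩, -⟩ := existsUnique_beta R.pt.sq R.pt.cart γ' sq'' t ht
    have e1 : φ' ≫ β = βW ≫ φ := by
      have e2 : (φ' ≫ β) ≫ γ = (βW ≫ φ) ≫ γ := by
        rw [Category.assoc, Category.assoc, b1, hφγ, reassoc_of% c1, hγ']
      refine cγ.hom_ext' (sqZ.hom_ext (congrArg LObj.Hom.top e2) ?_) e2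
      change (i' ≫ β.top) ≫ q = (βW.top ≫ φ.top) ≫ q
      rw [Category.assoc, Category.assoc, hφq, b2, c2, Category.assoc]
    constructor
    · intro hh
      have b3 : β ≫ χ = s.χ := hh.unique_beta β b1 b2
      refine ⟨βW, c1, c2, ?_⟩
      apply cE.hom_ext'
      · change βW.top ≫ R.pt.χ.top = χ'.top
        rw [R.pt.top, hχ't, ← hγ't]
        exact congrArg LObj.Hom.top c1
      · rw [Category.assoc, ← hχ, ← Category.assoc, ← e1, Category.assoc, b3]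
        exact hχ'.symm
    · intro hh
      have c3 : βW ≫ R.pt.χ = χ' := hh.unique_beta βW c1 c2
      refine ⟨β, b1, b2, ?_⟩
      refine ext_of_isIso iφ' ?_ ?_
      · change β.top ≫ χ.top = s.χ.top
        rw [hχt, s.top]
        exact congrArg LObj.Hom.top b1
      · change φ' ≫ β ≫ χ = φ' ≫ s.χ
        rw [← Category.assoc, e1, Category.assoc, hχ, ← Category.assoc, c3, hχ']
  obtain ⟨t, ⟨h1, h2⟩, h3⟩ := R.univ sW
  exact ⟨t, ⟨h1, (key t h1).2 h2⟩, fun t' h' => h3 t' ⟨h'.1, (key t' h'.1).1 h'.2⟩⟩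

end Closed

end K599.RepBC
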