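import Groth.Agent.ModSt.K927.Cart

/-!
# The category of modules on schemes with arbitrary comparison maps

`LObj`: pairs `(Y, M)` of a scheme and a module on it; a morphism `(Y, M) ⟶ (Z, N)` is a morphism `top : Y ⟶ Z` and
an arbitrary map `c : N ⟶ top_* M`.  Cartesian morphisms, their factorisation property, and the functor from the
families `ModSt.Obj f`.
-/

set_option autoImplicit false
universe u

open CategoryTheory CategoryTheory.Limits AlgebraicGeometry Opposite ModSt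

noncomputable section

namespace K599.LMod

open K927.ModSt

/-- A scheme with a module. -/
structure LObj : Type (u + 1) where
  Y : Scheme.{u}
  M : Y.Modules

namespace LObj

/-- Morphisms. -/
structure Hom (A B : LObj.{u}) where
  top : A.Y ⟶ B.Y
  c : B.M ⟶ (Scheme.Modules.pushforward top).obj A.M

theorem Hom.ext' {A B : LObj.{u}} {φ ψ : Hom A B} (ht : φ.top = ψ.top)
    (hc : ∀ (U : B.Y.Opens) (x : Γ(B.M, U)), HEq (φ.c.app U x) (ψ.c.app U x)) : φ = ψ := by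
  obtain ⟨t, c⟩ := φ
  obtain ⟨t', c'⟩ := ψ
  cases ht
  have hcc : c = c' := Scheme.Modules.hom_ext _ _ fun U => by
    ext x
    exact eq_of_heq (hc U x)
  cases hcc
  rfl

/-- The identity. -/
def Hom.id (A : LObj.{u}) : Hom A A where
  top := 𝟙 _
  c := (Scheme.Modules.pushforwardId A.Y).inv.app A.M

/-- Composition. -/
def Hom.comp {A B C : LObj.{u}} (φ : Hom A B) (ψ : Hom B C) : Hom A C where
  top := φ.top ≫ ψ.top
  c := ψ.c ≫ (Scheme.Modules.pushforward ψ.top).map φ.c ≫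
    (Scheme.Modules.pushforwardComp φ.top ψ.top).hom.app A.M

instance : Category.{u} LObj.{u} where
  Hom := Hom
  id := Hom.id
  comp := Hom.comp
  id_comp φ := Hom.ext' (Category.id_comp _) fun U x => by
    simp [Hom.comp, Hom.id]; rfl
  comp_id φ := Hom.ext' (Category.comp_id _) fun U x => by
    simp [Hom.comp, Hom.id]; rfl
  assoc φ ψ χ := Hom.ext' (Category.assoc _ _ _) fun U x => by
    simp [Hom.comp]; rfl

end LObj

@[simp] theorem id_top (A : LObj.{u}) : (𝟙 A : A ⟶ A).top = 𝟙 A.Y := rfl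
@[simp] theorem comp_top {A B C : LObj.{u}} (φ : A ⟶ B) (ψ : B ⟶ C) : (φ ≫ ψ).top = φ.top ≫ ψ.top := rfl

theorem id_c (A : LObj.{u}) : (𝟙 A : A ⟶ A).c = (Scheme.Modules.pushforwardId A.Y).inv.app A.M := rfl

theorem comp_c {A B C : LObj.{u}} (φ : A ⟶ B) (ψ : B ⟶ C) : (φ ≫ ψ).c =
    ψ.c ≫ (Scheme.Modules.pushforward ψ.top).map φ.c ≫
      (Scheme.Modules.pushforwardComp φ.top ψ.top).hom.app A.M := rfl

theorem id_c_app (A : LObj.{u}) (U : A.Y.Opens) (x : Γ(A.M, U)) : (𝟙 A : A ⟶ A).c.app U x = x := rfl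

theorem comp_c_app {A B C : LObj.{u}} (φ : A ⟶ B) (ψ : B ⟶ C) (U : C.Y.Opens) (x : Γ(C.M, U)) :
    (φ ≫ ψ).c.app U x = φ.c.app (ψ.top ⁻¹ᵁ U) (ψ.c.app U x) := rfl

/-- Extensionality. -/
theorem hom_ext {A B : LObj.{u}} {φ ψ : A ⟶ B} (ht : φ.top = ψ.top)
    (hc : φ.c ≫ (Scheme.Modules.pushforwardCongr ht).hom.app A.M = ψ.c) : φ = ψ := by
  obtain ⟨t, c⟩ := φ
  obtain ⟨t', c'⟩ := ψ
  cases ht
  have hcc : c = c' := by
    refine Eq.trans ?_ hc
    dsimp only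
    rw [pushforwardCongr_rfl_app]
    exact (Category.comp_id _).symm
  cases hcc
  rfl

theorem c_congr {A B : LObj.{u}} {φ ψ : A ⟶ B} (h : φ = ψ) :
    φ.c ≫ (Scheme.Modules.pushforwardCongr (congrArg LObj.Hom.top h)).hom.app A.M = ψ.c := by
  subst h
  rw [pushforwardCongr_rfl_app, Category.comp_id]

/-- The morphism with the same comparison map over an equal morphism of schemes. -/
def recast {A B : LObj.{u}} (φ : A ⟶ B) (t : A.Y ⟶ B.Y) (h : φ.top = t) : A ⟶ B :=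
  ⟨t, φ.c ≫ (Scheme.Modules.pushforwardCongr h).hom.app A.M⟩

theorem recast_eq {A B : LObj.{u}} (φ : A ⟶ B) (t : A.Y ⟶ B.Y) (h : φ.top = t) : recast φ t h = φ := by
  subst h
  exact hom_ext rfl (congr_comp φ.c rfl rfl)

/-- Cartesian morphisms. -/
def Cart {A B : LObj.{u}} (φ : A ⟶ B) : Prop := IsCart φ.top φ.c

theorem cart_id (A : LObj.{u}) : Cart (𝟙 A) := isCart_id A.M

theorem Cart.comp {A B C : LObj.{u}} {φ : A ⟶ B} {ψ : B ⟶ C} (h : Cart φ) (h' : Cart ψ) : Cart (φ ≫ ψ) :=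
  IsCart.comp h h'

theorem Cart.of_comp {A B C : LObj.{u}} {φ : A ⟶ B} {ψ : B ⟶ C} (h' : Cart ψ) (h : Cart (φ ≫ ψ)) : Cart φ :=
  isCart_of_comp h' h

/-- Unique factorisation through a cartesian morphism. -/
theorem Cart.existsUnique_lift {A B C : LObj.{u}} {φ : B ⟶ A} (hφ : Cart φ) (ψ : C ⟶ A) (t : C.Y ⟶ B.Y)
    (ht1 : t ≫ φ.top = ψ.top) : ∃! χ : C ⟶ B, χ.top = t ∧ χ ≫ φ = ψ := by
  let c' : A.M ⟶ (Scheme.Modules.pushforward (t ≫ φ.top)).obj C.M :=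
    ψ.c ≫ (Scheme.Modules.pushforwardCongr ht1.symm).hom.app C.M
  obtain ⟨v, hv⟩ := (hφ ((Scheme.Modules.pushforward t).obj C.M)).2
    (c' ≫ (Scheme.Modules.pushforwardComp t φ.top).inv.app C.M)
  dsimp only at hv
  have hv' : φ.c ≫ (Scheme.Modules.pushforward φ.top).map v ≫
      (Scheme.Modules.pushforwardComp t φ.top).hom.app C.M = c' := by
    rw [reassoc_of% hv]
    simp
  let χ : C ⟶ B := ⟨t, v⟩
  have hχ : χ ≫ φ = ψ := by
    refine hom_ext ht1 ?_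
    have h1 : (χ ≫ φ).c = c' := hv'
    exact (congrArg (· ≫ (Scheme.Modules.pushforwardCongr ht1).hom.app C.M) h1).trans (congr_comp ψ.c _ _)
  refine ⟨χ, ⟨rfl, hχ⟩, ?_⟩
  rintro χ' ⟨h1, h2⟩
  refine hom_ext h1 ?_
  apply (hφ _).1
  dsimp only
  refine Eq.trans ?_ hv.symm
  obtain ⟨t', v'⟩ := χ'
  dsimp only at h1
  subst h1
  dsimp only
  rw [pushforwardCongr_rfl_app, Category.comp_id]
  refine (Iso.eq_comp_inv ((Scheme.Modules.pushforwardComp t' φ.top).app C.M)).2 ?_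
  have h3 := c_congr h2.symm
  refine Eq.trans ?_ h3.symm
  exact Category.assoc _ _ _

theorem Cart.hom_ext' {A B C : LObj.{u}} {φ : B ⟶ A} (hφ : Cart φ) {χ χ' : C ⟶ B} (ht : χ.top = χ'.top)
    (h : χ ≫ φ = χ' ≫ φ) : χ = χ' :=
  (hφ.existsUnique_lift (χ' ≫ φ) χ'.top rfl).unique ⟨ht, h⟩ ⟨rfl, rfl⟩

/-- The factorisation. -/
def Cart.lift {A B C : LObj.{u}} {φ : B ⟶ A} (hφ : Cart φ) (ψ : C ⟶ A) (t : C.Y ⟶ B.Y)
    (ht1 : t ≫ φ.top = ψ.top) : C ⟶ B := (hφ.existsUnique_lift ψ t ht1).choose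

theorem Cart.lift_top {A B C : LObj.{u}} {φ : B ⟶ A} (hφ : Cart φ) (ψ : C ⟶ A) (t : C.Y ⟶ B.Y)
    (ht1 : t ≫ φ.top = ψ.top) : (hφ.lift ψ t ht1).top = t := (hφ.existsUnique_lift ψ t ht1).choose_spec.1.1

theorem Cart.lift_comp {A B C : LObj.{u}} {φ : B ⟶ A} (hφ : Cart φ) (ψ : C ⟶ A) (t : C.Y ⟶ B.Y)
    (ht1 : t ≫ φ.top = ψ.top) : hφ.lift ψ t ht1 ≫ φ = ψ := (hφ.existsUnique_lift ψ t ht1).choose_spec.1.2

/-- The inverse image. -/
abbrev pb (A : LObj.{u}) {Y' : Scheme.{u}} (h : Y' ⟶ A.Y) : LObj.{u} := ⟨Y', (Scheme.Modules.pullback h).obj A.M⟩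

/-- The structure morphism of the inverse image. -/
abbrev pbHom (A : LObj.{u}) {Y' : Scheme.{u}} (h : Y' ⟶ A.Y) : pb A h ⟶ A :=
  ⟨h, (Scheme.Modules.pullbackPushforwardAdjunction h).unit.app A.M⟩

theorem cart_pbHom (A : LObj.{u}) {Y' : Scheme.{u}} (h : Y' ⟶ A.Y) : Cart (pbHom A h) := isCart_unit h A.M

/-- The morphism of a map of modules on one scheme. -/
abbrev ofMap {Y : Scheme.{u}} {M N : Y.Modules} (v : M ⟶ N) : (⟨Y, N⟩ : LObj.{u}) ⟶ ⟨Y, M⟩ :=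
  ⟨𝟙 Y, v ≫ (Scheme.Modules.pushforwardId Y).inv.app N⟩

theorem ofMap_comp {Y : Scheme.{u}} {M N P : Y.Modules} (v : M ⟶ N) (w : N ⟶ P) :
    ofMap (v ≫ w) = ofMap w ≫ ofMap v := by
  refine LObj.Hom.ext' (Category.comp_id _).symm fun U x => ?_
  rfl

theorem ofMap_id {Y : Scheme.{u}} (M : Y.Modules) : ofMap (𝟙 M) = 𝟙 (⟨Y, M⟩ : LObj.{u}) := by
  refine LObj.Hom.ext' rfl fun U x => ?_
  rfl

theorem exists_ofMap {Y : Scheme.{u}} {M N : Y.Modules} (χ : (⟨Y, N⟩ : LObj.{u}) ⟶ ⟨Y, M⟩) (h : χ.top = 𝟙 Y) :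
    ∃ v : M ⟶ N, χ = ofMap v := by
  obtain ⟨t, c⟩ := χ
  dsimp only at h
  subst h
  refine ⟨c ≫ (Scheme.Modules.pushforwardId Y).hom.app N, ?_⟩
  refine LObj.Hom.ext' rfl fun U x => ?_
  rfl

theorem ofMap_injective {Y : Scheme.{u}} {M N : Y.Modules} {v w : M ⟶ N} (h : ofMap v = ofMap w) : v = w := by
  refine Scheme.Modules.hom_ext _ _ fun U => ?_
  ext x
  have h1 : (ofMap v).c = (ofMap w).c := by
    have := c_congr h
    rwa [pushforwardCongr_rfl_app, Category.comp_id] at this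
  exact congr($(h1).app U x)

variable {X S : Scheme.{u}} {f : X ⟶ S}

/-- The functor from families. -/
def ofObj (f : X ⟶ S) : Obj f ⥤ LObj.{u} where
  obj A := ⟨A.XT, A.E⟩
  map φ := ⟨φ.top, φ.c⟩
  map_id _ := rfl
  map_comp _ _ := rfl

theorem cart_ofObj {A B : Obj f} (φ : A ⟶ B) : Cart ((ofObj f).map φ) := φ.cart

/-- Morphisms of families are determined by their base and their image. -/
theorem obj_hom_ext {A B : Obj f} {φ ψ : A ⟶ B} (hb : φ.base = ψ.base)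
    (h : (ofObj f).map φ = (ofObj f).map ψ) : φ = ψ := by
  have ht : φ.top = ψ.top := congrArg LObj.Hom.top h
  exact K927.ModSt.hom_ext hb ht (c_congr h)

/-- Cartesian morphisms over a compatible base are morphisms of families. -/
theorem exists_obj_hom {A B : Obj f} (b : A.base ⟶ B.base) (χ : (ofObj f).obj A ⟶ (ofObj f).obj B) (h : Cart χ)
    (hp : χ.top ≫ B.p = A.p) (hq : χ.top ≫ B.q = A.q ≫ b.left) :
    ∃ φ : A ⟶ B, φ.base = b ∧ (ofObj f).map φ = χ :=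
  ⟨⟨b, χ.top, hp, hq, χ.c, h⟩, rfl, rfl⟩

end K599.LMod
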