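import Groth.Agent.ModSt.K599.ExtA
import Groth.Agent.ModSt.K599.LMod
import Groth.Agent.Ega3B.FibreIso

/-!
# `G ⊗_A B = j_* j^* G`

For a base change `j : X' ⟶ X`, `q : X' ⟶ Spec B` of `X` over `Spec A`, `G` quasi-coherent on `X` and a cartesian
comparison map `c : G ⟶ j_* G'`: the isomorphism `κ : G ⊗_A B ⟶ j_* G'` with `κ (b ⊗ s) = b • c s`, and its
functoriality.
-/

set_option autoImplicit false
universe u
open CategoryTheory CategoryTheory.Limits AlgebraicGeometry Opposite TopologicalSpace TensorProduct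

open Groth.Agent Groth.Agent.ModSt.K599

namespace K599.Kappa

open ExtA Aff Groth.Agent.Ega3B.TensorASec Groth.Agent.Ega3B.FibreIso K599.LMod
open Groth.Agent.PerfC.CyclicGlue

variable {A : Type u} [CommRing A] {X : Scheme.{u}} [X.Over (Spec (CommRingCat.of A))]

section Th

theorem th_smul (G : X.Modules) (N : ModuleCat.{u} A) (V : X.Opens) (r : Γ(X, V)) (n : N) (s : Γ(G, V)) :
    letI := modSec A G V
    th G N V (n ⊗ₜ[A] (r • s)) = r • th G N V (n ⊗ₜ[A] s) := by
  let _ := modSec A G V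
  change Ega1.TensorRestrict.toT (pullM X N) G V (secM N V n ⊗ₜ[Γ(X, V)] (r • s)) =
    r • Ega1.TensorRestrict.toT (pullM X N) G V (secM N V n ⊗ₜ[Γ(X, V)] s)
  rw [TensorProduct.tmul_smul]
  exact Ega1.TensorRestrict.toT_smul (pullM X N) G V r _

/-- Morphisms from `G ⊗_A N` are determined by their values on pure tensors over affine opens. -/
theorem hom_ext_th {G F : X.Modules} (hG : Coh.IsQCoh G) {N : ModuleCat.{u} A} {φ ψ : (TA A G).obj N ⟶ F}
    (h : ∀ V : X.Opens, IsAffineOpen V → ∀ (n : N) (s : Γ(G, V)),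
      letI := modSec A G V
      φ.app V (th G N V (n ⊗ₜ[A] s)) = ψ.app V (th G N V (n ⊗ₜ[A] s))) : φ = ψ := by
  refine hom_ext_affine fun V hV x => ?_
  let _ := modSec A G V
  obtain ⟨z, rfl⟩ := (th_bijective hG N hV).2 x
  induction z using TensorProduct.induction_on with
  | zero =>
    rw [map_zero]
    exact (map_zero (φ.app V).hom).trans (map_zero (ψ.app V).hom).symm
  | add a b ha hb =>
    rw [map_add]
    refine (map_add (φ.app V).hom _ _).trans (Eq.trans ?_ (map_add (ψ.app V).hom _ _).symm)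
    exact congrArg₂ (· + ·) ha hb
  | tmul n s => exact h V hV n s

end Th

section Kappa

variable {B : Type u} [CommRing B] [Algebra A B] {X' : Scheme.{u}} (j : X' ⟶ X)
  (q : X' ⟶ Spec (CommRingCat.of B)) {G : X.Modules} {G' : X'.Modules}
  (c : G ⟶ (Scheme.Modules.pushforward j).obj G')

/-- `κ (b ⊗ s) = b • c s`. -/
def IsKappa (κ : (TA A G).obj (ModuleCat.of A B) ⟶ (Scheme.Modules.pushforward j).obj G') : Prop :=
  ∀ (V : X.Opens) (b : B) (s : Γ(G, V)),
    letI := modSec A G V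
    (show Γ(G', j ⁻¹ᵁ V) from κ.app V (th G (ModuleCat.of A B) V (b ⊗ₜ[A] s))) =
      bSec j q V b • (show Γ(G', j ⁻¹ᵁ V) from c.app V s)

theorem isKappa_unique (hG : Coh.IsQCoh G)
    {κ κ' : (TA A G).obj (ModuleCat.of A B) ⟶ (Scheme.Modules.pushforward j).obj G'}
    (h : IsKappa j q c κ) (h' : IsKappa j q c κ') : κ = κ' :=
  hom_ext_th hG fun V _ b s => (h V b s).trans (h' V b s).symm

variable {j q c} (H : IsPullback j q (X ↘ Spec (CommRingCat.of A))
  (Spec.map (CommRingCat.ofHom (algebraMap A B))))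

/-- The sections of a push-forward restrict like those of the module. -/
theorem res_push (F : X'.Modules) {V W : X.Opens} (h : W ≤ V) (s : Γ(F, j ⁻¹ᵁ V)) :
    res ((Scheme.Modules.pushforward j).obj F) h s = res F (Scheme.Hom.preimage_mono j h) s := rfl

/-- It suffices to check on affine opens. -/
theorem isKappa_of_affine
    {κ : (TA A G).obj (ModuleCat.of A B) ⟶ (Scheme.Modules.pushforward j).obj G'}
    (h : ∀ (V : X.Opens), IsAffineOpen V → ∀ (b : B) (s : Γ(G, V)),
      letI := modSec A G V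
      (show Γ(G', j ⁻¹ᵁ V) from κ.app V (th G (ModuleCat.of A B) V (b ⊗ₜ[A] s))) =
        bSec j q V b • (show Γ(G', j ⁻¹ᵁ V) from c.app V s)) : IsKappa j q c κ := by
  intro V b s
  refine sec_ext ((Scheme.Modules.pushforward j).obj G') _ _ fun W hW hWa => ?_
  let _ := modSec A G V
  let _ := modSec A G W
  have h1 : res ((Scheme.Modules.pushforward j).obj G') hW (κ.app V (th G (ModuleCat.of A B) V (b ⊗ₜ[A] s))) =
      κ.app W (th G (ModuleCat.of A B) W (b ⊗ₜ[A] (res G hW s))) := by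
    rw [← app_res, th_res]
  have h2 : res G' (Scheme.Hom.preimage_mono j hW) (bSec j q V b • (show Γ(G', j ⁻¹ᵁ V) from c.app V s)) =
      bSec j q W b • (show Γ(G', j ⁻¹ᵁ W) from c.app W (res G hW s)) := by
    rw [res_smul]
    congr 1
    · exact bSec_res j q hW b
    · exact (app_res c hW s).symm
  exact h1.trans ((h W hWa b (res G hW s)).trans h2.symm)

include H in
/-- Existence for the inverse image. -/
theorem exists_kappa_pullback (hG : Coh.IsQCoh G) :
    ∃ κ : (TA A G).obj (ModuleCat.of A B) ⟶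
        (Scheme.Modules.pushforward j).obj ((Scheme.Modules.pullback j).obj G),
      IsKappa j q ((Scheme.Modules.pullbackPushforwardAdjunction j).unit.app G) κ ∧ IsIso κ := by
  let σ : ((TA A G).obj (ModuleCat.of A B)).presheaf ⟶
      ((Scheme.Modules.pushforward j).obj ((Scheme.Modules.pullback j).obj G)).presheaf :=
    (shHom j q H G hG).hom
  have hσ : ∀ (V : X.Opens) (hV : IsAffineOpen V) (y : Γ((TA A G).obj (ModuleCat.of A B), V)),
      ap σ V y = phi j q H G hG hV y := fun V hV y => shHom_app j q H G hG hV y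
  have hσ' : ∀ (V : X.Opens) (hV : IsAffineOpen V) (b : B) (s : Γ(G, V)),
      letI := modSec A G V
      ap σ V (th G (ModuleCat.of A B) V (b ⊗ₜ[A] s)) =
        (show Γ((Scheme.Modules.pullback j).obj G, j ⁻¹ᵁ V) from bSec j q V b • jSec j G V s) := by
    intro V hV b s
    let _ := modSec A G V
    refine (hσ V hV _).trans ?_
    exact phi_theta j q H G hG hV (b ⊗ₜ[A] s)
  obtain ⟨κ, hκ⟩ := exists_hom σ (fun V hV r x => by
    let _ := modSec A G V
    obtain ⟨z, rfl⟩ := (th_bijective hG (ModuleCat.of A B) hV).2 x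
    induction z using TensorProduct.induction_on with
    | zero =>
      rw [map_zero, smul_zero]
      have h0 : ap σ V 0 = 0 := map_zero (σ.app (op V)).hom
      rw [h0, smul_zero]
    | add a b ha hb =>
      have hadd : ∀ x y, ap σ V (x + y) = ap σ V x + ap σ V y := fun x y => map_add (σ.app (op V)).hom x y
      rw [map_add, smul_add, hadd, hadd, ha, hb, smul_add]
    | tmul b s =>
      rw [← th_smul, hσ' V hV, hσ' V hV]
      have e1 : jSec j G V (r • s) = j.app V r • jSec j G V s := jSec_smul j G V r s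
      have e2 : (r • (show Γ((Scheme.Modules.pushforward j).obj ((Scheme.Modules.pullback j).obj G), V) from
          bSec j q V b • jSec j G V s)) =
          (show Γ((Scheme.Modules.pullback j).obj G, j ⁻¹ᵁ V) from j.app V r • (bSec j q V b • jSec j G V s)) := rfl
      refine Eq.trans ?_ e2.symm
      rw [e1]
      exact smul_comm _ _ _)
  refine ⟨κ, isKappa_of_affine fun V hV b s => ?_, ?_⟩
  · refine (hκ V _).trans ((hσ' V hV b s).trans ?_)
    have e1 : jSec j G V s = ((Scheme.Modules.pullbackPushforwardAdjunction j).unit.app G).app V s := by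
      rw [jSec, VarietyB.PullSec.sec_apply]
      exact congr($(((Scheme.Modules.pullback j).obj G).presheaf.map_id (op (j ⁻¹ᵁ V))) _)
    rw [e1]
  · have h1 : (Scheme.Modules.toPresheaf X).map κ = σ := by
      ext U x
      exact hκ U x
    have h2 : IsIso σ := by
      have := isIso_shHom j q H G hG
      exact inferInstanceAs (IsIso ((sheafToPresheaf _ _).map (shHom j q H G hG)))
    rw [← isIso_iff_of_reflects_iso _ (Scheme.Modules.toPresheaf X), h1]
    exact h2

/-- **Existence of `κ`.** -/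
theorem exists_kappa (hG : Coh.IsQCoh G) (H : IsPullback j q (X ↘ Spec (CommRingCat.of A))
    (Spec.map (CommRingCat.ofHom (algebraMap A B)))) (hc : _root_.ModSt.IsCart j c) :
    ∃ κ : (TA A G).obj (ModuleCat.of A B) ⟶ (Scheme.Modules.pushforward j).obj G',
      IsKappa j q c κ ∧ IsIso κ := by
  obtain ⟨κ, h1, h2⟩ := exists_kappa_pullback H hG
  obtain ⟨e, he⟩ := K927.ModSt.exists_iso_of_isCart (K927.ModSt.isCart_unit j G) hc
  refine ⟨κ ≫ (Scheme.Modules.pushforward j).map e.hom, fun V b s => ?_, inferInstance⟩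
  let _ := modSec A G V
  have h3 : (κ ≫ (Scheme.Modules.pushforward j).map e.hom).app V (th G (ModuleCat.of A B) V (b ⊗ₜ[A] s)) =
      e.hom.app (j ⁻¹ᵁ V) (κ.app V (th G (ModuleCat.of A B) V (b ⊗ₜ[A] s))) := rfl
  have h4 : c.app V s = e.hom.app (j ⁻¹ᵁ V)
      (((Scheme.Modules.pullbackPushforwardAdjunction j).unit.app G).app V s) := by
    rw [← he]; rfl
  refine h3.trans ((congrArg (e.hom.app (j ⁻¹ᵁ V)) (h1 V b s)).trans ?_)
  rw [h4]
  exact Scheme.Modules.Hom.app_smul e.hom _ _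

end Kappa

section Nat

variable {B C : Type u} [CommRing B] [Algebra A B] [CommRing C] [Algebra A C] {G : X.Modules}

/-- The action of `B` on sections is compatible with morphisms. -/
theorem app_bSec {X' X'' : Scheme.{u}} (j : X' ⟶ X) (q : X' ⟶ Spec (CommRingCat.of B)) (b : X'' ⟶ X')
    (q' : X'' ⟶ Spec (CommRingCat.of C)) (ψ : B →+* C)
    (w : b ≫ q = q' ≫ Spec.map (CommRingCat.ofHom ψ)) (V : X.Opens) (x : B) :
    b.app (j ⁻¹ᵁ V) (bSec j q V x) = bSec (b ≫ j) q' V (ψ x) := by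
  rw [bSec_eq, bSec_eq]
  have h1 : Coh.toGlobal q' (ψ x) = b.appTop (Coh.toGlobal q x) := by
    change q'.appTop ((Scheme.ΓSpecIso (CommRingCat.of C)).inv (ψ x)) =
      b.appTop (q.appTop ((Scheme.ΓSpecIso (CommRingCat.of B)).inv x))
    have h2 := congr($(Scheme.ΓSpecIso_inv_naturality (CommRingCat.ofHom ψ)) x)
    have h3 := congr($(congrArg Scheme.Hom.appTop w) ((Scheme.ΓSpecIso (CommRingCat.of B)).inv x))
    rw [Scheme.Hom.comp_appTop, Scheme.Hom.comp_appTop] at h3
    exact (congrArg q'.appTop h2).trans h3.symm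
  rw [h1]
  exact ConcreteCategory.congr_hom (b.naturality (homOfLE (le_top : j ⁻¹ᵁ V ≤ ⊤)).op) _

/-- **Functoriality of `κ`.** -/
theorem kappa_comp (hG : Coh.IsQCoh G) {y y' : LObj.{u}} (γ : y ⟶ ⟨X, G⟩) (q : y.Y ⟶ Spec (CommRingCat.of B))
    (β : y' ⟶ y) (q' : y'.Y ⟶ Spec (CommRingCat.of C)) (ψ : B →ₐ[A] C)
    (w : β.top ≫ q = q' ≫ Spec.map (CommRingCat.ofHom ψ.toRingHom))
    {κ : (TA A G).obj (ModuleCat.of A B) ⟶ (Scheme.Modules.pushforward γ.top).obj y.M}
    (h : IsKappa γ.top q γ.c κ)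
    {κ' : (TA A G).obj (ModuleCat.of A C) ⟶ (Scheme.Modules.pushforward (β.top ≫ γ.top)).obj y'.M}
    (h' : IsKappa (β.top ≫ γ.top) q' (β ≫ γ).c κ') :
    (TA A G).map (ModuleCat.ofHom ψ.toLinearMap) ≫ κ' =
      κ ≫ (Scheme.Modules.pushforward γ.top).map β.c ≫
        (Scheme.Modules.pushforwardComp β.top γ.top).hom.app y'.M := by
  refine hom_ext_th hG fun V _ b s => ?_
  let _ := modSec A G V
  have e1 : ((TA A G).map (ModuleCat.ofHom ψ.toLinearMap) ≫ κ').app V
      (th G (ModuleCat.of A B) V (b ⊗ₜ[A] s)) =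
      κ'.app V (th G (ModuleCat.of A C) V (ψ b ⊗ₜ[A] s)) := by
    refine (congrArg (κ'.app V) (th_map G (ModuleCat.ofHom ψ.toLinearMap) V (b ⊗ₜ[A] s))).trans ?_
    rfl
  have e2 : (κ ≫ (Scheme.Modules.pushforward γ.top).map β.c ≫
        (Scheme.Modules.pushforwardComp β.top γ.top).hom.app y'.M).app V
      (th G (ModuleCat.of A B) V (b ⊗ₜ[A] s)) =
      β.c.app (γ.top ⁻¹ᵁ V) (κ.app V (th G (ModuleCat.of A B) V (b ⊗ₜ[A] s))) := rfl
  refine e1.trans (Eq.trans ?_ e2.symm)
  refine (h' V (ψ b) s).trans (Eq.trans ?_ (congrArg (β.c.app (γ.top ⁻¹ᵁ V)) (h V b s)).symm)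
  refine Eq.trans ?_ (Scheme.Modules.Hom.app_smul β.c (bSec γ.top q V b) (γ.c.app V s)).symm
  have e3 := app_bSec γ.top q β.top q' ψ.toRingHom w V b
  have e4 : (bSec γ.top q V b • (β.c.app (γ.top ⁻¹ᵁ V) (γ.c.app V s) :
      Γ((Scheme.Modules.pushforward β.top).obj y'.M, γ.top ⁻¹ᵁ V))) =
      (β.top.app (γ.top ⁻¹ᵁ V) (bSec γ.top q V b) •
        (show Γ(y'.M, β.top ⁻¹ᵁ (γ.top ⁻¹ᵁ V)) from β.c.app (γ.top ⁻¹ᵁ V) (γ.c.app V s))) := rfl
  refine Eq.trans ?_ e4.symm
  rw [e3]
  rfl

end Nat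

end K599.Kappa
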