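import Groth.Agent.ModSt.K599.LMod

/-!
# The scheme of homomorphisms of two modules: universal elements

`HomRep f E G` for `f : X ⟶ U` and modules `E`, `G` on `X`: a `U`-scheme `Z` with a universal homomorphism
`E_Z ⟶ G_Z`, in the language of `LObj` (a homomorphism `E_T ⟶ G_T` is a morphism `(X_T, G_T) ⟶ (X, E)` over
`X_T ⟶ X`).
-/

set_option autoImplicit false
universe u
open CategoryTheory CategoryTheory.Limits AlgebraicGeometry Opposite TopologicalSpace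

namespace K599.Rep

open K599.LMod

variable {X U : Scheme.{u}}

/-- A family over `T`: the base change of `(X, G)` along `u : T ⟶ U`, and a homomorphism from the base change of
`E`. -/
structure Pt (f : X ⟶ U) (E G : X.Modules) {T : Scheme.{u}} (u : T ⟶ U) where
  y : LObj.{u}
  γ : y ⟶ ⟨X, G⟩
  q : y.Y ⟶ T
  sq : IsPullback γ.top q f u
  cart : Cart γ
  χ : y ⟶ ⟨X, E⟩
  top : χ.top = γ.top

/-- `s` restricts to `s'` along `t`. -/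
def Pt.Rel {f : X ⟶ U} {E G : X.Modules} {T T' : Scheme.{u}} {u : T ⟶ U} {u' : T' ⟶ U} (s : Pt f E G u)
    (s' : Pt f E G u') (t : T' ⟶ T) : Prop :=
  ∃ β : s'.y ⟶ s.y, β ≫ s.γ = s'.γ ∧ β.top ≫ s.q = s'.q ≫ t ∧ β ≫ s.χ = s'.χ

section Lift

variable {f : X ⟶ U} {E G : X.Modules} {T T' : Scheme.{u}} {u : T ⟶ U} {u' : T' ⟶ U}

/-- The comparison of two base changes of `(X, G)`. -/
theorem existsUnique_beta {y y' : LObj.{u}} {γ : y ⟶ ⟨X, G⟩} {q : y.Y ⟶ T} (sq : IsPullback γ.top q f u)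
    (cart : Cart γ) (γ' : y' ⟶ ⟨X, G⟩) {q' : y'.Y ⟶ T'} (sq' : IsPullback γ'.top q' f u') (t : T' ⟶ T)
    (h : t ≫ u = u') : ∃! β : y' ⟶ y, β ≫ γ = γ' ∧ β.top ≫ q = q' ≫ t := by
  let b : y'.Y ⟶ y.Y := sq.lift γ'.top (q' ≫ t) (by rw [Category.assoc, h]; exact sq'.w)
  have hb1 : b ≫ γ.top = γ'.top := sq.lift_fst _ _ _
  have hb2 : b ≫ q = q' ≫ t := sq.lift_snd _ _ _
  obtain ⟨β, ⟨h1, h2⟩, h3⟩ := cart.existsUnique_lift γ' b hb1
  refine ⟨β, ⟨h2, by rw [h1]; exact hb2⟩, ?_⟩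
  rintro β' ⟨h4, h5⟩
  refine h3 β' ⟨?_, h4⟩
  apply sq.hom_ext
  · rw [hb1, ← h4]; rfl
  · rw [h5, hb2]

theorem Pt.Rel.unique_beta {s : Pt f E G u} {s' : Pt f E G u'} {t : T' ⟶ T} (h : s.Rel s' t)
    (β : s'.y ⟶ s.y) (h1 : β ≫ s.γ = s'.γ) (h2 : β.top ≫ s.q = s'.q ≫ t) : β ≫ s.χ = s'.χ := by
  obtain ⟨β', h3, h4, h5⟩ := h
  have : β = β' := by
    have ht : β.top = β'.top := by
      apply s.sq.hom_ext
      · exact (congrArg LObj.Hom.top h1).trans (congrArg LObj.Hom.top h3).symm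
      · rw [h2, h4]
    exact s.cart.hom_ext' ht (h1.trans h3.symm)
  rw [this, h5]

/-- The base change of a point. -/
theorem Pt.exists_restrict (s : Pt f E G u) (t : T' ⟶ T) (h : t ≫ u = u') {y' : LObj.{u}} (γ' : y' ⟶ ⟨X, G⟩)
    {q' : y'.Y ⟶ T'} (sq' : IsPullback γ'.top q' f u') (cart' : Cart γ') :
    ∃ χ' : y' ⟶ ⟨X, E⟩, ∃ h' : χ'.top = γ'.top, s.Rel ⟨y', γ', q', sq', cart', χ', h'⟩ t := by
  obtain ⟨β, ⟨h1, h2⟩, -⟩ := existsUnique_beta s.sq s.cart γ' sq' t h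
  refine ⟨β ≫ s.χ, ?_, β, h1, h2, rfl⟩
  have h3 : (β ≫ s.χ).top = β.top ≫ s.χ.top := rfl
  rw [h3, s.top, ← h1]
  rfl

theorem Pt.Rel.comp {T'' : Scheme.{u}} {u'' : T'' ⟶ U} {s : Pt f E G u} {s' : Pt f E G u'} {s'' : Pt f E G u''}
    {t : T' ⟶ T} {t' : T'' ⟶ T'} (h : s.Rel s' t) (h' : s'.Rel s'' t') : s.Rel s'' (t' ≫ t) := by
  obtain ⟨β, h1, h2, h3⟩ := h
  obtain ⟨β', h1', h2', h3'⟩ := h'
  refine ⟨β' ≫ β, by rw [Category.assoc, h1, h1'], ?_, by rw [Category.assoc, h3, h3']⟩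
  have h4 : (β' ≫ β).top = β'.top ≫ β.top := rfl
  rw [h4, Category.assoc, h2, reassoc_of% h2']

theorem Pt.Rel.of_comp {T'' : Scheme.{u}} {u'' : T'' ⟶ U} {s : Pt f E G u} {s' : Pt f E G u'} {s'' : Pt f E G u''}
    {t : T' ⟶ T} {t' : T'' ⟶ T'} (h : s.Rel s' t) (h' : s.Rel s'' (t' ≫ t)) (hu : t ≫ u = u')
    (hu' : t' ≫ u' = u'') : s'.Rel s'' t' := by
  obtain ⟨β, h1, h2, h3⟩ := h
  obtain ⟨β', ⟨h1', h2'⟩, -⟩ := existsUnique_beta s'.sq s'.cart s''.γ s''.sq t' hu'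
  refine ⟨β', h1', h2', ?_⟩
  rw [← h3]
  have := h'.unique_beta (β' ≫ β) (by rw [Category.assoc, h1, h1']) (by
    have h4 : (β' ≫ β).top = β'.top ≫ β.top := rfl
    rw [h4, Category.assoc, h2, reassoc_of% h2'])
  rw [← this, Category.assoc]

end Lift

/-- The scheme of homomorphisms. -/
structure HomRep (f : X ⟶ U) (E G : X.Modules) where
  Z : Scheme.{u}
  z : Z ⟶ U
  pt : Pt f E G z
  univ : ∀ {B : CommRingCat.{u}} {u : Spec B ⟶ U} (s : Pt f E G u), ∃! t : Spec B ⟶ Z, t ≫ z = u ∧ pt.Rel s t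

/-- The universal property for affine test schemes. -/
theorem HomRep.univ_affine {f : X ⟶ U} {E G : X.Modules} (R : HomRep f E G) {T : Scheme.{u}} [IsAffine T] {u : T ⟶ U}
    (s : Pt f E G u) : ∃! t : T ⟶ R.Z, t ≫ R.z = u ∧ R.pt.Rel s t := by
  let e := T.isoSpec
  let s' : Pt f E G (e.inv ≫ u) :=
    ⟨s.y, s.γ, s.q ≫ e.hom, by
      have h1 : IsPullback s.q (𝟙 _) (𝟙 _) s.q := IsPullback.of_vert_isIso ⟨by simp⟩
      have h2 : IsPullback (𝟙 s.y.Y) (s.q ≫ e.hom) s.q e.inv := IsPullback.of_horiz_isIso ⟨by simp⟩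
      have h3 := h2.paste_horiz s.sq
      simpa using h3, s.cart, s.χ, s.top⟩
  obtain ⟨t, ⟨h1, h2⟩, h3⟩ := R.univ s'
  have hs : ∀ t : Spec Γ(T, ⊤) ⟶ R.Z, R.pt.Rel s' t ↔ R.pt.Rel s (e.hom ≫ t) := by
    intro t
    constructor
    · rintro ⟨β, a, b, c⟩
      exact ⟨β, a, b.trans (Category.assoc _ _ _), c⟩
    · rintro ⟨β, a, b, c⟩
      exact ⟨β, a, b.trans (Category.assoc _ _ _).symm, c⟩
  refine ⟨e.hom ≫ t, ⟨by rw [Category.assoc, h1, e.hom_inv_id_assoc], (hs t).1 h2⟩, ?_⟩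
  rintro t' ⟨h4, h5⟩
  have := h3 (e.inv ≫ t') ⟨by rw [Category.assoc, h4], (hs _).2 (by rwa [e.hom_inv_id_assoc])⟩
  rw [← this, e.hom_inv_id_assoc]

end K599.Rep
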