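import Groth.Agent.ModSt.K599.ExtD
import Groth.Agent.ModSt.K599.Kappa
import Groth.Agent.ModSt.K599.Rep
import Groth.Agent.Smoothlim.SymAlg
import Mathlib.LinearAlgebra.SymmetricAlgebra.Basic

/-!
# The scheme of homomorphisms over an affine base, from a corepresenting module

If `Hom(E, G ⊗_A M) = Hom_A(Q, M)` functorially in the `A`-module `M` (through `x : E ⟶ G ⊗_A Q`), then
`Spec (Sym_A Q)` is the scheme of homomorphisms from `E` to `G`.
-/

set_option autoImplicit false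
universe u
open CategoryTheory CategoryTheory.Limits AlgebraicGeometry Opposite TopologicalSpace TensorProduct

open Groth.Agent Groth.Agent.ModSt.K599

namespace K599.RepN

open ExtA Aff ExtC ExtD K599.LMod K599.Kappa K599.Rep

variable {A : Type u} [CommRing A] {X : Scheme.{u}} [X.Over (Spec (CommRingCat.of A))] {E G : X.Modules}

/-- The homomorphism over `B` attached to a linear map `Q ⟶ B`. -/
noncomputable abbrev homOf {B : Type u} [CommRing B] [Algebra A B] {y : LObj.{u}} (γ : y ⟶ ⟨X, G⟩)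
    {Q : ModuleCat.{u} A} (x : E ⟶ (TA A G).obj Q)
    (κ : (TA A G).obj (ModuleCat.of A B) ⟶ (Scheme.Modules.pushforward γ.top).obj y.M)
    (φ : Q ⟶ ModuleCat.of A B) : y ⟶ (⟨X, E⟩ : LObj.{u}) :=
  ⟨γ.top, x ≫ (TA A G).map φ ≫ κ⟩

theorem homOf_nat {B C : Type u} [CommRing B] [Algebra A B] [CommRing C] [Algebra A C] (hG : Coh.IsQCoh G)
    {y y' : LObj.{u}} (γ : y ⟶ ⟨X, G⟩) (q : y.Y ⟶ Spec (CommRingCat.of B))
    (β : y' ⟶ y) (γ' : y' ⟶ ⟨X, G⟩) (hβ : β ≫ γ = γ') (q' : y'.Y ⟶ Spec (CommRingCat.of C)) (ψ : B →ₐ[A] C)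
    (w : β.top ≫ q = q' ≫ Spec.map (CommRingCat.ofHom ψ.toRingHom)) {Q : ModuleCat.{u} A}
    (x : E ⟶ (TA A G).obj Q)
    {κ : (TA A G).obj (ModuleCat.of A B) ⟶ (Scheme.Modules.pushforward γ.top).obj y.M}
    (h : IsKappa γ.top q γ.c κ)
    {κ' : (TA A G).obj (ModuleCat.of A C) ⟶ (Scheme.Modules.pushforward γ'.top).obj y'.M}
    (h' : IsKappa γ'.top q' γ'.c κ') (φ : Q ⟶ ModuleCat.of A B) :
    β ≫ homOf γ x κ φ = homOf γ' x κ' (φ ≫ ModuleCat.ofHom ψ.toLinearMap) := by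
  subst hβ
  have h1 := kappa_comp hG γ q β q' ψ w h h'
  have h5 : (x ≫ (TA A G).map φ ≫ κ) ≫ (Scheme.Modules.pushforward γ.top).map β.c ≫
      (Scheme.Modules.pushforwardComp β.top γ.top).hom.app y'.M =
      x ≫ (TA A G).map (φ ≫ ModuleCat.ofHom ψ.toLinearMap) ≫
        (show (TA A G).obj (ModuleCat.of A C) ⟶ (Scheme.Modules.pushforward (β.top ≫ γ.top)).obj y'.M from κ') := by
    rw [Functor.map_comp, Category.assoc, Category.assoc, Category.assoc]
    exact congrArg (fun t => x ≫ (TA A G).map φ ≫ t) h1.symm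
  exact congrArg (fun c => (⟨β.top ≫ γ.top, c⟩ : y' ⟶ (⟨X, E⟩ : LObj.{u}))) h5

theorem existsUnique_homOf {B : Type u} [CommRing B] [Algebra A B] {y : LObj.{u}} (γ : y ⟶ ⟨X, G⟩)
    {Q : ModuleCat.{u} A} (x : E ⟶ (TA A G).obj Q)
    (hx : ∀ M : ModuleCat.{u} A, Function.Bijective (fun φ : Q ⟶ M => x ≫ (TA A G).map φ))
    (κ : (TA A G).obj (ModuleCat.of A B) ⟶ (Scheme.Modules.pushforward γ.top).obj y.M) [IsIso κ]
    (χ : y ⟶ (⟨X, E⟩ : LObj.{u})) (h : χ.top = γ.top) :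
    ∃! φ : Q ⟶ ModuleCat.of A B, homOf γ x κ φ = χ := by
  obtain ⟨t, c⟩ := χ
  obtain rfl : t = γ.top := h
  obtain ⟨φ, hφ⟩ := (hx (ModuleCat.of A B)).2 (c ≫ inv κ)
  refine ⟨φ, ?_, ?_⟩
  · have : x ≫ (TA A G).map φ ≫ κ = c := by
      have h2 : (x ≫ (TA A G).map φ) ≫ κ = c := by
        rw [show x ≫ (TA A G).map φ = c ≫ inv κ from hφ, Category.assoc, IsIso.inv_hom_id, Category.comp_id]
      rw [← h2, Category.assoc]
    exact congrArg (fun c => (⟨γ.top, c⟩ : y ⟶ (⟨X, E⟩ : LObj.{u}))) this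
  · intro φ' h'
    apply (hx (ModuleCat.of A B)).1
    have h3 : x ≫ (TA A G).map φ' ≫ κ = c := by
      injection h' with _ h4
    change x ≫ (TA A G).map φ' = x ≫ (TA A G).map φ
    rw [show x ≫ (TA A G).map φ = c ≫ inv κ from hφ, ← h3, Category.assoc, Category.assoc, IsIso.hom_inv_id,
      Category.comp_id]

/-- **The scheme of homomorphisms from a corepresenting module.** -/
theorem exists_homRep (hG : Coh.IsQCoh G) (Q : ModuleCat.{u} A) (x : E ⟶ (TA A G).obj Q)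
    (hx : ∀ M : ModuleCat.{u} A, Function.Bijective (fun φ : Q ⟶ M => x ≫ (TA A G).map φ)) :
    ∃ R : HomRep (X ↘ Spec (CommRingCat.of A)) E G, ∃ e : R.Z = Spec (CommRingCat.of (SymmetricAlgebra A Q)),
      R.z = eqToHom e ≫ Spec.map (CommRingCat.ofHom (algebraMap A (SymmetricAlgebra A Q))) := by
  let R := SymmetricAlgebra A Q
  let z : Spec (CommRingCat.of R) ⟶ Spec (CommRingCat.of A) := Spec.map (CommRingCat.ofHom (algebraMap A R))
  let f : X ⟶ Spec (CommRingCat.of A) := X ↘ Spec (CommRingCat.of A)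
  let γ := pbHom (⟨X, G⟩ : LObj.{u}) (pullback.fst f z)
  have sq : IsPullback γ.top (pullback.snd f z) f z := IsPullback.of_hasPullback f z
  obtain ⟨κ, hκ, hκi⟩ := exists_kappa (j := γ.top) (q := pullback.snd f z) (c := γ.c) hG sq
    (cart_pbHom (⟨X, G⟩ : LObj.{u}) (pullback.fst f z))
  let φ₀ : Q ⟶ ModuleCat.of A R := ModuleCat.ofHom (SymmetricAlgebra.ι A Q)
  let pt : Pt f E G z := ⟨_, γ, pullback.snd f z, sq, cart_pbHom _ _, homOf γ x κ φ₀, rfl⟩
  refine ⟨⟨Spec (CommRingCat.of R), z, pt, ?_⟩, rfl, by simp [z, R]⟩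
  intro B u s
  obtain ⟨u₀, rfl⟩ := Spec.map_surjective u
  let _ : Algebra A B := u₀.hom.toAlgebra
  obtain ⟨κ', hκ', hκi'⟩ := exists_kappa (B := B) (j := s.γ.top) (q := s.q) (c := s.γ.c) hG s.sq s.cart
  obtain ⟨φ, hφ, hφu⟩ := existsUnique_homOf s.γ x hx κ' s.χ s.top
  refine ⟨Spec.map (CommRingCat.ofHom (SymmetricAlgebra.lift φ.hom).toRingHom), ⟨?_, ?_⟩, ?_⟩
  · change Spec.map _ ≫ Spec.map _ = _
    rw [← Spec.map_comp, ← CommRingCat.ofHom_comp]
    congr 1
    ext a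
    exact (SymmetricAlgebra.lift φ.hom).commutes a
  · obtain ⟨β, ⟨h1, h2⟩, -⟩ := existsUnique_beta sq (cart_pbHom _ _) s.γ s.sq
      (Spec.map (CommRingCat.ofHom (SymmetricAlgebra.lift φ.hom).toRingHom)) (by
        change Spec.map _ ≫ Spec.map _ = _
        rw [← Spec.map_comp, ← CommRingCat.ofHom_comp]
        congr 1
        ext a
        exact (SymmetricAlgebra.lift φ.hom).commutes a)
    refine ⟨β, h1, h2, ?_⟩
    have h3 := homOf_nat hG γ (pullback.snd f z) β s.γ h1 s.q (SymmetricAlgebra.lift φ.hom) h2 x hκ hκ' φ₀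
    rw [show pt.χ = homOf γ x κ φ₀ from rfl, h3, ← hφ]
    congr 1
    ext a
    exact SymmetricAlgebra.lift_ι_apply φ.hom a
  · rintro t ⟨ht, β, h1, h2, h3⟩
    obtain ⟨t₀, rfl⟩ := Spec.map_surjective t
    have ht' : t₀.hom.comp (algebraMap A R) = u₀.hom := by
      have : Spec.map t₀ ≫ Spec.map (CommRingCat.ofHom (algebraMap A R)) = Spec.map u₀ := ht
      rw [← Spec.map_comp] at this
      exact congrArg CommRingCat.Hom.hom (Spec.map_injective this)
    let ψ : R →ₐ[A] B := { t₀.hom with commutes' := fun a => congr($ht' a) }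
    have h4 := homOf_nat hG γ (pullback.snd f z) β s.γ h1 s.q ψ h2 x hκ hκ' φ₀
    have h5 := hφu _ (h4.symm.trans h3)
    have h6 : ψ = SymmetricAlgebra.lift φ.hom := by
      apply SymmetricAlgebra.algHom_ext
      rw [SymmetricAlgebra.lift_comp_ι, ← h5]
      rfl
    congr 1
    rw [← h6]
    rfl

/-- **The scheme of homomorphisms over a noetherian affine base.** -/
theorem exists_homRep_noetherian [IsNoetherianRing A] [IsNoetherian X] (hX : ExtFinite A X)
    (hE : Coh.IsCoh E) (hG : Coh.IsCoh G) (hfl : FlatMod.IsFlatOver (X ↘ Spec (CommRingCat.of A)) G) :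
    ∃ R : HomRep (X ↘ Spec (CommRingCat.of A)) E G, IsAffineHom R.z ∧ LocallyOfFinitePresentation R.z := by
  obtain ⟨Q, x, hQ, hx⟩ := exists_corep hX hE hG hfl
  obtain ⟨R, e, he⟩ := exists_homRep hG.1 Q x hx
  refine ⟨R, ?_, ?_⟩
  · rw [he]
    infer_instance
  · rw [he]
    have h1 : Algebra.FiniteType A (SymmetricAlgebra A Q) := Smoothlim.SymAlg.finiteType A Q
    have h2 : LocallyOfFinitePresentation
        (Spec.map (CommRingCat.ofHom (algebraMap A (SymmetricAlgebra A Q)))) := by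
      rw [HasRingHomProperty.Spec_iff (P := @LocallyOfFinitePresentation)]
      exact RingHom.finitePresentation_algebraMap.2 (Algebra.FinitePresentation.of_finiteType.1 h1)
    infer_instance

end K599.RepN
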