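import Groth.Agent.ModSt.K599.Model2
import Groth.Agent.ModSt.K599.RepN
import Groth.Agent.ModSt.K599.RepBC
import Groth.Agent.ModSt.K599.IsoRep
import Groth.Agent.Ega3B.FlatRestrict
import Groth.Agent.S7277

/-!
# The schemes of homomorphisms and of isomorphisms over an affine base
-/

set_option autoImplicit false
universe u
open CategoryTheory CategoryTheory.Limits AlgebraicGeometry Opposite TopologicalSpace

open Groth.Agent Groth.Agent.ModSt.K599

namespace K599.RepMain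

open K599.LMod K599.Rep K599.IsoRep K599.RepBC K927.ModSt

/-- The cartesian arrow attached to an isomorphism with the inverse image. -/
noncomputable abbrev arr {X X₀ : Scheme.{u}} (g : X ⟶ X₀) {M₀ : X₀.Modules} {M : X.Modules}
    (e : (Scheme.Modules.pullback g).obj M₀ ≅ M) : (⟨X, M⟩ : LObj.{u}) ⟶ ⟨X₀, M₀⟩ :=
  ⟨g, (Scheme.Modules.pullbackPushforwardAdjunction g).unit.app M₀ ≫
    (Scheme.Modules.pushforward g).map e.hom⟩

theorem cart_arr {X X₀ : Scheme.{u}} (g : X ⟶ X₀) {M₀ : X₀.Modules} {M : X.Modules}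
    (e : (Scheme.Modules.pullback g).obj M₀ ≅ M) : Cart (arr g e) :=
  isCart_compIso (isCart_unit g M₀) e

/-- **The scheme of homomorphisms**, base `Spec A`. -/
theorem exists_homRep_spec (A : Type u) [CommRing A] {X : Scheme.{u}} (f : X ⟶ Spec (CommRingCat.of A)) [IsProper f]
    [LocallyOfFinitePresentation f] (E G : X.Modules) (hE : CohB1.IsFP E) (hG : CohB1.IsFP G)
    (hGf : FlatMod.IsFlatOver f G) : ∃ R : HomRep f E G, IsAffineHom R.z ∧ LocallyOfFinitePresentation R.z := by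
  obtain ⟨A₀, X₀, f₀, g, E₀, G₀, hfg, hp, hlfp, sq, hE₀, hG₀, hGf₀, ⟨eE⟩, ⟨eG⟩⟩ :=
    Model2.exists_model A f E G hE hG hGf
  have hft : Algebra.FiniteType ℤ A₀ := A₀.fg_iff_finiteType.1 hfg
  have hN : IsNoetherianRing A₀ := Algebra.FiniteType.isNoetherianRing ℤ A₀
  let _ : X₀.Over (Spec (CommRingCat.of A₀)) := ⟨f₀⟩
  have hp' : IsProper (X₀ ↘ Spec (CommRingCat.of A₀)) := hp
  have hX₀ : IsNoetherian X₀ := by
    have h1 : IsLocallyNoetherian X₀ := LocallyOfFiniteType.isLocallyNoetherian f₀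
    have h2 : CompactSpace X₀ := QuasiCompact.compactSpace_of_compactSpace f₀
    exact {}
  have hExt : ExtC.ExtFinite A₀ X₀ := fun K L hK hKb hL hLa n =>
    Groth.Agent.S7277.result A₀ X₀ K L hK hKb hL hLa n
  obtain ⟨R₀, h1, h2⟩ := RepN.exists_homRep_noetherian (E := E₀) (G := G₀) hExt
    ((Groth.Agent.S0018.result X₀ E₀).mpr hE₀) ((Groth.Agent.S0018.result X₀ G₀).mpr hG₀) hGf₀
  obtain ⟨R, a, ha⟩ := exists_baseChange R₀ (arr g eG) (arr g eE) rfl sq (cart_arr g eG) (cart_arr g eE)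
  exact ⟨R, MorphismProperty.of_isPullback ha h1, MorphismProperty.of_isPullback ha h2⟩

/-- **The scheme of homomorphisms**, affine base. -/
theorem exists_homRep {X U : Scheme.{u}} [IsAffine U] (f : X ⟶ U) [IsProper f]
    [LocallyOfFinitePresentation f] (E G : X.Modules) (hE : CohB1.IsFP E) (hG : CohB1.IsFP G)
    (hGf : FlatMod.IsFlatOver f G) : ∃ R : HomRep f E G, IsAffineHom R.z ∧ LocallyOfFinitePresentation R.z := by
  obtain ⟨R₀, h1, h2⟩ := exists_homRep_spec Γ(U, ⊤) (f ≫ U.isoSpec.hom) E G hE hG 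
    (fun x => (Groth.Agent.Ega3B.FlatRestrict.isFlatOverAt_comp_iff f U.isoSpec.hom G x).2 (hGf x))
  have sq : IsPullback (𝟙 X) f (f ≫ U.isoSpec.hom) U.isoSpec.hom :=
    IsPullback.of_horiz_isIso ⟨Category.id_comp _⟩
  obtain ⟨R, a, ha⟩ := exists_baseChange (f := f) (u₀ := U.isoSpec.hom) R₀ (𝟙 _) (𝟙 _) rfl sq
    (cart_id _) (cart_id _)
  exact ⟨R, MorphismProperty.of_isPullback ha h1, MorphismProperty.of_isPullback ha h2⟩

/-- **The scheme of isomorphisms**, affine base. -/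
theorem exists_isoRep {X U : Scheme.{u}} [IsAffine U] (f : X ⟶ U) [IsProper f]
    [LocallyOfFinitePresentation f] (E₁ E₂ : X.Modules) (h₁ : CohB1.IsFP E₁) (h₂ : CohB1.IsFP E₂)
    (hf₁ : FlatMod.IsFlatOver f E₁) (hf₂ : FlatMod.IsFlatOver f E₂) :
    ∃ R : IsoR f E₁ E₂, IsAffineHom R.z ∧ LocallyOfFinitePresentation R.z := by
  obtain ⟨R12, a12, b12⟩ := exists_homRep f E₂ E₁ h₂ h₁ hf₁
  obtain ⟨R21, a21, b21⟩ := exists_homRep f E₁ E₂ h₁ h₂ hf₂
  obtain ⟨R11, a11, b11⟩ := exists_homRep f E₁ E₁ h₁ h₁ hf₁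
  obtain ⟨R22, a22, b22⟩ := exists_homRep f E₂ E₂ h₂ h₂ hf₂
  exact IsoRep.exists_isoRep R12 R21 R11 R22

end K599.RepMain
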