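import Groth.Agent.ModSt.K599.GlueFun

/-!
# Gluing of universal homomorphisms over the affine opens of the base
-/

set_option autoImplicit false
universe u
open CategoryTheory CategoryTheory.Limits AlgebraicGeometry Opposite TopologicalSpace

namespace K599.Glue

open K599.LMod K599.Rep K599.IsoRep K927.ModSt K927.En
open Groth.Agent.Picfga.OverRep

variable {X U : Scheme.{u}} {f : X ⟶ U} {E G : X.Modules}
  {K : ∀ ⦃y : LObj.{u}⦄, (y ⟶ (⟨X, E⟩ : LObj.{u})) → Prop}

section Pt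

theorem exists_theta {T : Scheme.{u}} {u : T ⟶ U} (s : Pt f E G u) :
    ∃ θ : YT f G u ⟶ s.y, θ ≫ s.γ = γT f G u ∧ θ.top ≫ s.q = qT f G u :=
  (existsUnique_theta s.sq s.cart (γT f G u) (qT f G u) (sqT f G u).w).exists

/-- The comparison with the chosen base change. -/
noncomputable def th {T : Scheme.{u}} {u : T ⟶ U} (s : Pt f E G u) : YT f G u ⟶ s.y := (exists_theta s).choose

theorem th_γ {T : Scheme.{u}} {u : T ⟶ U} (s : Pt f E G u) : th s ≫ s.γ = γT f G u := (exists_theta s).choose_spec.1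

theorem th_q {T : Scheme.{u}} {u : T ⟶ U} (s : Pt f E G u) : (th s).top ≫ s.q = qT f G u :=
  (exists_theta s).choose_spec.2

theorem cart_th {T : Scheme.{u}} {u : T ⟶ U} (s : Pt f E G u) : Cart (th s) :=
  s.cart.of_comp (by rw [th_γ]; exact cT f G u)

theorem exists_eta {T : Scheme.{u}} {u : T ⟶ U} (s : Pt f E G u) :
    ∃ η : s.y ⟶ YT f G u, η ≫ γT f G u = s.γ ∧ η.top ≫ qT f G u = s.q ∧ η ≫ th s = 𝟙 _ := by
  obtain ⟨η, ⟨h1, h2⟩, -⟩ := existsUnique_theta (sqT f G u) (cT f G u) s.γ s.q s.sq.w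
  refine ⟨η, h1, h2, ?_⟩
  refine (existsUnique_theta s.sq s.cart s.γ s.q s.sq.w).unique ⟨?_, ?_⟩ ⟨Category.id_comp _, Category.id_comp _⟩
  · rw [Category.assoc, th_γ, h1]
  · change (η.top ≫ (th s).top) ≫ s.q = s.q
    rw [Category.assoc, th_q, h2]

/-- The point of the functor attached to a point. -/
noncomputable def ofPt (hK : LocP E K) {T : Scheme.{u}} {u : T ⟶ U} (s : Pt f E G u) (hs : K s.χ) :
    Sec (K := K) f G u :=
  ⟨th s ≫ s.χ, by
    change (th s).top ≫ s.χ.top = _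
    rw [s.top]; exact congrArg LObj.Hom.top (th_γ s), hK.stab _ _ (cart_th s) hs⟩

/-- The point attached to an element of the functor. -/
noncomputable def toPt {T : Scheme.{u}} {u : T ⟶ U} (x : Sec (K := K) f G u) : Pt f E G u :=
  ⟨YT f G u, γT f G u, qT f G u, sqT f G u, cT f G u, x.1, x.2.1⟩

variable (hK : LocP E K)

theorem map_eq_ofPt {H T : Over U} (ξ : (FK f G hK).obj (op H)) (g : T ⟶ H) (s : Pt f E G T.hom) (hs : K s.χ) :
    (FK f G hK).map g.op ξ = ofPt hK s hs ↔ (toPt ξ).Rel s g.left := by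
  obtain ⟨η, e1, e2, e3⟩ := exists_eta s
  constructor
  · intro h
    have h1 : bT f G g.left (Over.w g) ≫ ξ.1 = th s ≫ s.χ := congrArg Subtype.val h
    refine ⟨η ≫ bT f G g.left (Over.w g), ?_, ?_, ?_⟩
    · change (η ≫ _) ≫ γT f G H.hom = s.γ
      rw [Category.assoc, bT_γ, e1]
    · change (η.top ≫ (bT f G g.left (Over.w g)).top) ≫ qT f G H.hom = s.q ≫ g.left
      rw [Category.assoc, bT_q, ← Category.assoc, e2]
    · change (η ≫ _) ≫ ξ.1 = s.χ
      rw [Category.assoc, h1, ← Category.assoc, e3, Category.id_comp]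
  · rintro ⟨β, h1, h2, h3⟩
    let β' : s.y ⟶ YT f G H.hom := β
    let ξ' : YT f G H.hom ⟶ (⟨X, E⟩ : LObj.{u}) := ξ.1
    have h1' : β' ≫ γT f G H.hom = s.γ := h1
    have h2' : β'.top ≫ qT f G H.hom = s.q ≫ g.left := h2
    have h3' : β' ≫ ξ' = s.χ := h3
    have h4 : th s ≫ β' = bT f G g.left (Over.w g) := by
      apply bT_unique
      · rw [Category.assoc, h1', th_γ]
      · change ((th s).top ≫ β'.top) ≫ qT f G H.hom = _
        rw [Category.assoc, h2', ← Category.assoc, th_q]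
    apply Subtype.ext
    change bT f G g.left (Over.w g) ≫ ξ' = th s ≫ s.χ
    rw [← h4, Category.assoc, h3']

theorem map_ofPt_eq {H T : Over U} (p : Pt f E G H.hom) (hp : K p.χ) (g : T ⟶ H) (x : (FK f G hK).obj (op T)) :
    (FK f G hK).map g.op (ofPt hK p hp) = x ↔ p.Rel (toPt x) g.left := by
  constructor
  · intro h
    have h1 : bT f G g.left (Over.w g) ≫ th p ≫ p.χ = x.1 := congrArg Subtype.val h
    refine ⟨bT f G g.left (Over.w g) ≫ th p, ?_, ?_, ?_⟩
    · rw [Category.assoc, th_γ]; exact bT_γ _ _ _ _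
    · change ((bT f G g.left (Over.w g)).top ≫ (th p).top) ≫ p.q = qT f G T.hom ≫ g.left
      rw [Category.assoc, th_q, bT_q]
    · rw [Category.assoc]; exact h1
  · rintro ⟨β, h1, h2, h3⟩
    have h4 : β = bT f G g.left (Over.w g) ≫ th p := by
      refine (existsUnique_theta p.sq p.cart (γT f G T.hom) (qT f G T.hom ≫ g.left) ?_).unique ⟨h1, h2⟩ ⟨?_, ?_⟩
      · rw [(sqT f G T.hom).w, Category.assoc, Over.w g]
      · rw [Category.assoc, th_γ, bT_γ]
      · change ((bT f G g.left (Over.w g)).top ≫ (th p).top) ≫ p.q = qT f G T.hom ≫ g.left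
        rw [Category.assoc, th_q, bT_q]
    apply Subtype.ext
    change bT f G g.left (Over.w g) ≫ th p ≫ p.χ = x.1
    rw [← Category.assoc, ← h4]
    exact h3

end Pt

section Push

variable {V : Scheme.{u}} (j : V ⟶ U)

/-- The inverse image of a module on the base change. -/
noncomputable abbrev mV (M : X.Modules) : (pullback f j).Modules := (Scheme.Modules.pullback (pullback.fst f j)).obj M

noncomputable abbrev πV (M : X.Modules) : (⟨pullback f j, mV (f := f) j M⟩ : LObj.{u}) ⟶ ⟨X, M⟩ :=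
  pbHom (⟨X, M⟩ : LObj.{u}) (pullback.fst f j)

theorem cart_πV (M : X.Modules) : Cart (πV (f := f) j M) := cart_pbHom _ _

theorem sqV : IsPullback (pullback.fst f j) (pullback.snd f j) f j := IsPullback.of_hasPullback f j

/-- A point over a scheme over `V` as a point over a scheme over `U`. -/
noncomputable abbrev push {T : Scheme.{u}} {u : T ⟶ V}
    (s : Pt (pullback.snd f j) (mV (f := f) j E) (mV (f := f) j G) u) : Pt f E G (u ≫ j) :=
  ⟨s.y, s.γ ≫ πV j G, s.q, s.sq.paste_horiz (sqV j), s.cart.comp (cart_πV j G), s.χ ≫ πV j E, by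
    change s.χ.top ≫ pullback.fst f j = s.γ.top ≫ pullback.fst f j
    rw [s.top]⟩

theorem push_rel {T T' : Scheme.{u}} {u : T ⟶ V} {u' : T' ⟶ V}
    (s : Pt (pullback.snd f j) (mV (f := f) j E) (mV (f := f) j G) u)
    (s' : Pt (pullback.snd f j) (mV (f := f) j E) (mV (f := f) j G) u') (t : T' ⟶ T) (ht : t ≫ u = u') :
    (push j s).Rel (push j s') t ↔ s.Rel s' t := by
  constructor
  · rintro ⟨β, h1, h2, h3⟩
    have ht1 : β.top ≫ s.γ.top = s'.γ.top := by
      apply (sqV (f := f) j).hom_ext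
      · exact congrArg LObj.Hom.top h1
      · rw [Category.assoc, s.sq.w, s'.sq.w, ← Category.assoc]
        refine (congrArg (· ≫ u) h2).trans ?_
        rw [Category.assoc, ht]
    refine ⟨β, ?_, h2, ?_⟩
    · exact (cart_πV j G).hom_ext' ht1 ((Category.assoc _ _ _).trans h1)
    · refine (cart_πV j E).hom_ext' ?_ ((Category.assoc _ _ _).trans h3)
      change β.top ≫ s.χ.top = s'.χ.top
      rw [s.top, s'.top]; exact ht1
  · rintro ⟨β, h1, h2, h3⟩
    refine ⟨β, ?_, h2, ?_⟩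
    · change β ≫ s.γ ≫ πV j G = s'.γ ≫ πV j G
      rw [← Category.assoc, h1]
    · change β ≫ s.χ ≫ πV j E = s'.χ ≫ πV j E
      rw [← Category.assoc, h3]

theorem exists_pull {T : Scheme.{u}} {u : T ⟶ V} (s : Pt f E G (u ≫ j)) :
    ∃ s' : Pt (pullback.snd f j) (mV (f := f) j E) (mV (f := f) j G) u, push j s' = s := by
  obtain ⟨y, γ, q, sq, cart, χ, top⟩ := s
  have hw : γ.top ≫ f = (q ≫ u) ≫ j := by rw [sq.w, Category.assoc]
  let k : y.Y ⟶ pullback f j := pullback.lift γ.top (q ≫ u) hw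
  have k1 : k ≫ pullback.fst f j = γ.top := pullback.lift_fst _ _ _
  have k2 : k ≫ pullback.snd f j = q ≫ u := pullback.lift_snd _ _ _
  let γ' := (cart_πV (f := f) j G).lift γ k k1
  have γt : γ'.top = k := (cart_πV (f := f) j G).lift_top _ _ _
  have γ1 : γ' ≫ πV j G = γ := (cart_πV (f := f) j G).lift_comp _ _ _
  let χ' := (cart_πV (f := f) j E).lift χ k (k1.trans top.symm)
  have χt : χ'.top = k := (cart_πV (f := f) j E).lift_top _ _ _
  have χ1 : χ' ≫ πV j E = χ := (cart_πV (f := f) j E).lift_comp _ _ _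
  clear_value γ' χ'
  subst γ1 χ1
  have cγ : Cart γ' := (cart_πV (f := f) j G).of_comp cart
  have sq' : IsPullback γ'.top q (pullback.snd f j) u := by
    refine IsPullback.of_right sq ?_ (sqV (f := f) j)
    rw [γt]; exact k2
  exact ⟨⟨y, γ', q, sq', cγ, χ', χt.trans γt.symm⟩, rfl⟩

end Push

/-- **Gluing of universal homomorphisms.** -/
theorem exists_universal (hK : LocP E K) (hG : Coh.IsQCoh G) (P : MorphismProperty Scheme.{u})
    [IsZariskiLocalAtTarget P] [P.IsStableUnderBaseChange]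
    (h : ∀ (A : CommRingCat.{u}) (j : Spec A ⟶ U) [IsOpenImmersion j], ∃ (Z : Scheme.{u}) (z : Z ⟶ Spec A)
      (pt : Pt (pullback.snd f j) (mV (f := f) j E) (mV (f := f) j G) z), P z ∧ K (pt.χ ≫ πV j E) ∧
      ∀ {T : Scheme.{u}} [IsAffine T] {u : T ⟶ Spec A}
        (s : Pt (pullback.snd f j) (mV (f := f) j E) (mV (f := f) j G) u), K (s.χ ≫ πV j E) →
        ∃! t : T ⟶ Z, t ≫ z = u ∧ pt.Rel s t) :
    ∃ (Z : Scheme.{u}) (z : Z ⟶ U) (pt : Pt f E G z), P z ∧ K pt.χ ∧
      ∀ {T : Scheme.{u}} {u : T ⟶ U} (s : Pt f E G u), K s.χ → ∃! t : T ⟶ Z, t ≫ z = u ∧ pt.Rel s t := by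
  obtain ⟨H, hP, ⟨r⟩⟩ := K245.RepAff.exists_rep_of_charts (isZarSheaf_FK hK hG) P (by
    intro A j hj
    obtain ⟨Z, z, pt, hPz, hKpt, hu⟩ := h A j
    refine ⟨Over.mk z, ofPt hK (push j pt) hKpt, hPz, ?_⟩
    intro T hT x
    obtain ⟨s', hs'⟩ := exists_pull (u := T.hom) j (toPt (f := f) (G := G) x)
    have hKs : K (s'.χ ≫ πV j E) := by
      have h1 : K (push j s').χ := by rw [hs']; exact x.2.2
      exact h1
    obtain ⟨t, ⟨t1, t2⟩, t3⟩ := hu s' hKs
    have key : ∀ g : T ⟶ Over.mk z, ((FK f G hK).map ((Over.map j).map g).op (ofPt hK (push j pt) hKpt) = x ↔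
        pt.Rel s' g.left) := by
      intro g
      rw [map_ofPt_eq (H := (Over.map j).obj (Over.mk z)) (T := (Over.map j).obj T), ← hs']
      exact push_rel j pt s' g.left (Over.w g)
    refine ⟨Over.homMk t t1, (key _).2 t2, ?_⟩
    intro g hg
    ext
    exact t3 g.left ⟨Over.w g, (key g).1 hg⟩)
  let ξ := r.homEquiv (𝟙 H)
  refine ⟨H.left, H.hom, toPt ξ, hP, ξ.2.2, ?_⟩
  intro T u s hs
  have key : ∀ g : Over.mk u ⟶ H, r.homEquiv g = ofPt hK s hs ↔ (toPt ξ).Rel s g.left := by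
    intro g
    rw [r.homEquiv_eq]
    exact map_eq_ofPt hK (T := Over.mk u) ξ g s hs
  obtain ⟨g, hg⟩ := r.homEquiv.surjective (ofPt hK s hs : (FK f G hK).obj (op (Over.mk u)))
  refine ⟨g.left, ⟨Over.w g, (key g).1 hg⟩, ?_⟩
  rintro t ⟨t1, t2⟩
  have h1 : r.homEquiv (Over.homMk t t1 : Over.mk u ⟶ H) = ofPt hK s hs := (key _).2 t2
  exact congrArg (fun φ : Over.mk u ⟶ H => φ.left) (r.homEquiv.injective (h1.trans hg.symm))

end K599.Glue
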