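import Groth.Agent.ModSt.K599.IsoRep

/-!
# Products of families of modules

Two families `A`, `B` (over the bases `A.base`, `B.base` over `S`) have a product in the category of families as soon
as the scheme of isomorphisms of their pull-backs to `A.base ×_S B.base` exists.
-/

set_option autoImplicit false
universe u
open CategoryTheory CategoryTheory.Limits AlgebraicGeometry Opposite TopologicalSpace ModSt

namespace K599.Prod

open K599.LMod K599.Rep K599.IsoRep K927.ModSt

/-- The scheme of isomorphisms, for all test schemes. -/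
structure IsoG {X U : Scheme.{u}} (f : X ⟶ U) (E₁ E₂ : X.Modules) where
  Z : Scheme.{u}
  z : Z ⟶ U
  pt : Pt f E₂ E₁ z
  cart : Cart pt.χ
  univ : ∀ {T : Scheme.{u}} {u : T ⟶ U} (s : Pt f E₂ E₁ u), Cart s.χ → ∃! t : T ⟶ Z, t ≫ z = u ∧ pt.Rel s t

variable {X S : Scheme.{u}} {f : X ⟶ S}

section

variable (A B : Obj f)

/-- The product of the bases. -/
noncomputable abbrev U : Scheme.{u} := pullback A.base.hom B.base.hom

/-- The base change of `X` to the product of the bases. -/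
noncomputable abbrev Y : Scheme.{u} := pullback A.q (pullback.fst A.base.hom B.base.hom)

noncomputable abbrev j₁ : Y A B ⟶ A.XT := pullback.fst _ _

noncomputable abbrev fY : Y A B ⟶ U A B := pullback.snd _ _

theorem sqY : IsPullback (j₁ A B) (fY A B) A.q (pullback.fst A.base.hom B.base.hom) :=
  IsPullback.of_hasPullback _ _

theorem w₂ : (j₁ A B ≫ A.p) ≫ f = (fY A B ≫ pullback.snd A.base.hom B.base.hom) ≫ B.base.hom := by
  rw [Category.assoc, A.isPullback.w, ← Category.assoc, (sqY A B).w, Category.assoc, Category.assoc,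
    pullback.condition]

noncomputable def j₂ : Y A B ⟶ B.XT := B.isPullback.lift _ _ (w₂ A B)

theorem j₂_p : j₂ A B ≫ B.p = j₁ A B ≫ A.p := B.isPullback.lift_fst _ _ _

theorem j₂_q : j₂ A B ≫ B.q = fY A B ≫ pullback.snd A.base.hom B.base.hom := B.isPullback.lift_snd _ _ _

/-- The first module. -/
noncomputable abbrev E₁ : (Y A B).Modules := (Scheme.Modules.pullback (j₁ A B)).obj A.E

/-- The second module. -/
noncomputable abbrev E₂ : (Y A B).Modules := (Scheme.Modules.pullback (j₂ A B)).obj B.E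

noncomputable abbrev π₁ : (⟨Y A B, E₁ A B⟩ : LObj.{u}) ⟶ (ofObj f).obj A := pbHom (⟨A.XT, A.E⟩ : LObj.{u}) (j₁ A B)

noncomputable abbrev π₂ : (⟨Y A B, E₂ A B⟩ : LObj.{u}) ⟶ (ofObj f).obj B := pbHom (⟨B.XT, B.E⟩ : LObj.{u}) (j₂ A B)

theorem cart_π₁ : Cart (π₁ A B) := cart_pbHom _ _

theorem cart_π₂ : Cart (π₂ A B) := cart_pbHom _ _

variable {A B}

/-- The product of two families. -/
noncomputable def W (R : IsoG (fY A B) (E₁ A B) (E₂ A B)) : Obj f where
  base := Over.mk (R.z ≫ pullback.fst A.base.hom B.base.hom ≫ A.base.hom)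
  XT := R.pt.y.Y
  p := R.pt.γ.top ≫ j₁ A B ≫ A.p
  q := R.pt.q
  isPullback := R.pt.sq.paste_horiz ((sqY A B).paste_horiz A.isPullback)
  E := R.pt.y.M

variable (R : IsoG (fY A B) (E₁ A B) (E₂ A B))

theorem χ_p : (R.pt.χ.top ≫ j₂ A B) ≫ B.p = R.pt.γ.top ≫ j₁ A B ≫ A.p := by
  rw [R.pt.top, Category.assoc, j₂_p]

theorem χ_q : (R.pt.χ.top ≫ j₂ A B) ≫ B.q = R.pt.q ≫ R.z ≫ pullback.snd A.base.hom B.base.hom := by
  rw [R.pt.top, Category.assoc, j₂_q, ← Category.assoc, R.pt.sq.w, Category.assoc]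

theorem γ_q : (R.pt.γ.top ≫ j₁ A B) ≫ A.q = R.pt.q ≫ R.z ≫ pullback.fst A.base.hom B.base.hom := by
  rw [Category.assoc, (sqY A B).w, ← Category.assoc, R.pt.sq.w, Category.assoc]

/-- The first projection. -/
noncomputable def pr₁ : W R ⟶ A where
  base := Over.homMk (R.z ≫ pullback.fst A.base.hom B.base.hom) (by simp [W])
  top := (R.pt.γ ≫ π₁ A B).top
  w_p := Category.assoc _ _ _
  w_q := γ_q R
  c := (R.pt.γ ≫ π₁ A B).c
  cart := R.pt.cart.comp (cart_π₁ A B)

/-- The second projection. -/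
noncomputable def pr₂ : W R ⟶ B where
  base := Over.homMk (R.z ≫ pullback.snd A.base.hom B.base.hom) (by
    simp only [W, Over.mk_hom, Over.mk_left, Category.assoc, pullback.condition])
  top := (R.pt.χ ≫ π₂ A B).top
  w_p := χ_p R
  w_q := χ_q R
  c := (R.pt.χ ≫ π₂ A B).c
  cart := R.cart.comp (cart_π₂ A B)

/-- **The product of two families.** -/
theorem existsUnique (C : Obj f) (a : C ⟶ A) (b : C ⟶ B) : ∃! c : C ⟶ W R, c ≫ pr₁ R = a ∧ c ≫ pr₂ R = b := by
  let u : C.base.left ⟶ U A B := pullback.lift a.base.left b.base.left (by rw [Over.w a.base, Over.w b.base])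
  have u1 : u ≫ pullback.fst _ _ = a.base.left := pullback.lift_fst _ _ _
  have u2 : u ≫ pullback.snd _ _ = b.base.left := pullback.lift_snd _ _ _
  have hw : a.top ≫ A.q = (C.q ≫ u) ≫ pullback.fst A.base.hom B.base.hom := by rw [a.w_q, Category.assoc, u1]
  let k : C.XT ⟶ Y A B := (sqY A B).lift a.top (C.q ≫ u) hw
  have k1 : k ≫ j₁ A B = a.top := (sqY A B).lift_fst _ _ _
  have k2 : k ≫ fY A B = C.q ≫ u := (sqY A B).lift_snd _ _ _
  have k3 : k ≫ j₂ A B = b.top := by
    apply B.isPullback.hom_ext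
    · rw [Category.assoc, j₂_p, reassoc_of% k1, a.w_p, b.w_p]
    · rw [Category.assoc, j₂_q, reassoc_of% k2, u2, b.w_q]
  let a' := (ofObj f).map a
  let b' := (ofObj f).map b
  let γ := (cart_π₁ A B).lift a' k k1
  have γt : γ.top = k := (cart_π₁ A B).lift_top _ _ _
  have γ1 : γ ≫ π₁ A B = a' := (cart_π₁ A B).lift_comp _ _ _
  let χ := (cart_π₂ A B).lift b' k k3
  have χt : χ.top = k := (cart_π₂ A B).lift_top _ _ _
  have χ1 : χ ≫ π₂ A B = b' := (cart_π₂ A B).lift_comp _ _ _
  have cγ : Cart γ := (cart_π₁ A B).of_comp (by rw [γ1]; exact cart_ofObj a)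
  have cχ : Cart χ := (cart_π₂ A B).of_comp (by rw [χ1]; exact cart_ofObj b)
  have sqk : IsPullback k C.q (fY A B) u := by
    refine IsPullback.of_right ?_ k2 (sqY A B)
    rw [k1, u1]
    exact a.isPullback_top
  let s : Pt (fY A B) (E₂ A B) (E₁ A B) u :=
    ⟨_, γ, C.q, by rw [γt]; exact sqk, cγ, χ, χt.trans γt.symm⟩
  have key : ∀ c : C ⟶ W R, (c ≫ pr₁ R = a ∧ c ≫ pr₂ R = b) ↔
      (c.base.left ≫ R.z = u ∧ ((ofObj f).map c) ≫ R.pt.γ = γ ∧ ((ofObj f).map c) ≫ R.pt.χ = χ) := by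
    intro c
    constructor
    · rintro ⟨h1, h2⟩
      have hu : c.base.left ≫ R.z = u := by
        apply pullback.hom_ext
        · rw [u1, Category.assoc]
          exact congrArg (fun φ : C ⟶ A => φ.base.left) h1
        · rw [u2, Category.assoc]
          exact congrArg (fun φ : C ⟶ B => φ.base.left) h2
      have g1 : ((ofObj f).map c ≫ R.pt.γ) ≫ π₁ A B = γ ≫ π₁ A B := by
        rw [γ1]; exact congrArg (ofObj f).map h1
      have g2 : ((ofObj f).map c ≫ R.pt.χ) ≫ π₂ A B = χ ≫ π₂ A B := by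
        rw [χ1]; exact congrArg (ofObj f).map h2
      let ct : C.XT ⟶ R.pt.y.Y := c.top
      let cb : C.base.left ⟶ R.Z := c.base.left
      have hct : ct ≫ R.pt.q = C.q ≫ cb := c.w_q
      have ht : ct ≫ R.pt.γ.top = k := by
        apply (sqY A B).hom_ext
        · rw [k1]
          exact congrArg (fun φ : C ⟶ A => φ.top) h1
        · rw [k2, Category.assoc, R.pt.sq.w, ← Category.assoc, hct, Category.assoc]
          exact congrArg (C.q ≫ ·) hu
      refine ⟨hu, (cart_π₁ A B).hom_ext' ?_ g1, (cart_π₂ A B).hom_ext' ?_ g2⟩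
      · rw [γt]; exact ht
      · rw [χt]
        change ct ≫ R.pt.χ.top = k
        rw [R.pt.top]; exact ht
    · rintro ⟨hu, h1, h2⟩
      constructor
      · refine obj_hom_ext ?_ ?_
        · ext
          change c.base.left ≫ R.z ≫ pullback.fst _ _ = a.base.left
          rw [← u1, ← hu, Category.assoc]
        · change (ofObj f).map c ≫ R.pt.γ ≫ π₁ A B = a'
          rw [← Category.assoc, h1, γ1]
      · refine obj_hom_ext ?_ ?_
        · ext
          change c.base.left ≫ R.z ≫ pullback.snd _ _ = b.base.left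
          rw [← u2, ← hu, Category.assoc]
        · change (ofObj f).map c ≫ R.pt.χ ≫ π₂ A B = b'
          rw [← Category.assoc, h2, χ1]
  obtain ⟨t, ⟨ht, β, β1, β2, β3⟩, tu⟩ := R.univ s cχ
  have htS : t ≫ R.z ≫ pullback.fst A.base.hom B.base.hom ≫ A.base.hom = C.base.hom := by
    rw [reassoc_of% ht, reassoc_of% u1, Over.w a.base]
  have cβ : Cart β := R.pt.cart.of_comp (by rw [β1]; exact cγ)
  have hp : β.top ≫ (W R).p = C.p := by
    change β.top ≫ R.pt.γ.top ≫ j₁ A B ≫ A.p = C.p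
    have h1 : β.top ≫ R.pt.γ.top = k := (congrArg LObj.Hom.top β1).trans γt
    rw [← Category.assoc, h1]
    exact (Category.assoc _ _ _).symm.trans ((congrArg (· ≫ A.p) k1).trans a.w_p)
  obtain ⟨c, hc1, hc2⟩ := exists_obj_hom (A := C) (B := W R) (Over.homMk t htS) β cβ hp β2
  refine ⟨c, ?_, ?_⟩
  · show c ≫ pr₁ R = a ∧ c ≫ pr₂ R = b
    rw [key]
    refine ⟨?_, ?_, ?_⟩
    · rw [hc1]; exact ht
    · rw [hc2]; exact β1
    · rw [hc2]; exact β3
  · intro c' hc'
    have hc'' : c' ≫ pr₁ R = a ∧ c' ≫ pr₂ R = b := hc'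
    rw [key] at hc''
    have h4 : c'.base.left = t := tu _ ⟨hc''.1, (ofObj f).map c', hc''.2.1, c'.w_q, hc''.2.2⟩
    refine obj_hom_ext ?_ ?_
    · rw [hc1]
      ext
      exact h4
    · rw [hc2]
      refine R.pt.cart.hom_ext' ?_ (hc''.2.1.trans β1.symm)
      apply R.pt.sq.hom_ext
      · exact (congrArg LObj.Hom.top hc''.2.1).trans (congrArg LObj.Hom.top β1).symm
      · rw [β2]
        exact c'.w_q.trans (congrArg (C.q ≫ ·) h4)

end

end K599.Prod
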