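import Groth.Agent.ModSt.K599.Good
import Groth.Agent.ModSt.K599.Prod
import Groth.Agent.ModSt.K599.GlueMain

/-!
# The scheme of isomorphisms over an arbitrary base
-/

set_option autoImplicit false
universe u
open CategoryTheory CategoryTheory.Limits AlgebraicGeometry Opposite TopologicalSpace ModSt

open Groth.Agent Groth.Agent.ModSt.K599

namespace K599.IsoGlue

open K599.LMod K599.Rep K599.IsoRep K599.RepBC K599.RepMain K599.RepSupp K599.Good K599.Prod K927.ModSt K599.Glue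

variable {X U : Scheme.{u}} {f : X ⟶ U}

/-- Local existence of the scheme of isomorphisms. -/
theorem local_isoRep [LocallyOfFinitePresentation f] {E₁ E₂ : X.Modules} (h₁ : Gd f E₁) (h₂ : Gd f E₂)
    {V : Scheme.{u}} [IsAffine V] (v : V ⟶ U) {XV : Scheme.{u}} {fV : XV ⟶ V} {E₁' E₂' : XV.Modules}
    (φ₁ : (⟨XV, E₁'⟩ : LObj.{u}) ⟶ ⟨X, E₁⟩) (φ₂ : (⟨XV, E₂'⟩ : LObj.{u}) ⟶ ⟨X, E₂⟩) (h : φ₂.top = φ₁.top)
    (c₁ : Cart φ₁) (c₂ : Cart φ₂) (sq : IsPullback φ₁.top fV f v) :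
    ∃ R : IsoR fV E₁' E₂', IsAffineHom R.z ∧ LocallyOfFinitePresentation R.z := by
  have : LocallyOfFinitePresentation fV := MorphismProperty.of_isPullback sq ‹_›
  exact Gd.exists_isoRep (h₁.baseChange φ₁ c₁ sq) (h₂.baseChange φ₂ c₂ (h ▸ sq))

/-- Local existence of the scheme of homomorphisms. -/
theorem local_homRep [LocallyOfFinitePresentation f] {E G : X.Modules} (hE : CohB1.IsFP E) (hG : Gd f G)
    {V : Scheme.{u}} [IsAffine V] (v : V ⟶ U) {XV : Scheme.{u}} {fV : XV ⟶ V} {E' G' : XV.Modules}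
    (φE : (⟨XV, E'⟩ : LObj.{u}) ⟶ ⟨X, E⟩) (φG : (⟨XV, G'⟩ : LObj.{u}) ⟶ ⟨X, G⟩)
    (cE : Cart φE) (cG : Cart φG) (sq : IsPullback φG.top fV f v) :
    ∃ R : HomRep fV E' G', IsAffineHom R.z ∧ LocallyOfFinitePresentation R.z := by
  have : LocallyOfFinitePresentation fV := MorphismProperty.of_isPullback sq ‹_›
  obtain ⟨e⟩ := nonempty_iso_pullback cE
  exact Gd.exists_homRep (PerfC.FPSections.isFP_of_iso e (FormalA.PullbackQC.isFP_pullback φE.top E hE))
    (hG.baseChange φG cG sq)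

/-- From `Spec B` to affine test schemes. -/
theorem univ_affine {E G : X.Modules} {K : ∀ ⦃y : LObj.{u}⦄, (y ⟶ (⟨X, E⟩ : LObj.{u})) → Prop} {Z : Scheme.{u}}
    {z : Z ⟶ U} (pt : Pt f E G z)
    (h : ∀ {B : CommRingCat.{u}} {u : Spec B ⟶ U} (s : Pt f E G u), K s.χ → ∃! t : Spec B ⟶ Z, t ≫ z = u ∧ pt.Rel s t)
    {T : Scheme.{u}} [IsAffine T] {u : T ⟶ U}
    (s : Pt f E G u) (hs : K s.χ) : ∃! t : T ⟶ Z, t ≫ z = u ∧ pt.Rel s t := by
  let e := T.isoSpec
  let s' : Pt f E G (e.inv ≫ u) :=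
    ⟨s.y, s.γ, s.q ≫ e.hom, by
      have h2 : IsPullback (𝟙 s.y.Y) (s.q ≫ e.hom) s.q e.inv := IsPullback.of_horiz_isIso ⟨by simp⟩
      have h3 := h2.paste_horiz s.sq
      simpa using h3, s.cart, s.χ, s.top⟩
  obtain ⟨t, ⟨h1, h2⟩, h3⟩ := h s' hs
  have hs : ∀ t : Spec Γ(T, ⊤) ⟶ Z, pt.Rel s' t ↔ pt.Rel s (e.hom ≫ t) := by
    intro t
    constructor
    · rintro ⟨β, a, b, c⟩
      exact ⟨β, a, b.trans (Category.assoc _ _ _), c⟩
    · rintro ⟨β, a, b, c⟩
      exact ⟨β, a, b.trans (Category.assoc _ _ _).symm, c⟩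
  refine ⟨e.hom ≫ t, ⟨by rw [Category.assoc, h1, e.hom_inv_id_assoc], (hs t).1 h2⟩, ?_⟩
  rintro t' ⟨h4, h5⟩
  have := h3 (e.inv ≫ t') ⟨by rw [Category.assoc, h4], (hs _).2 (by rwa [e.hom_inv_id_assoc])⟩
  rw [← this, e.hom_inv_id_assoc]

/-- Affine morphisms locally of finite presentation. -/
abbrev AffLfp : MorphismProperty Scheme.{u} := @IsAffineHom ⊓ @LocallyOfFinitePresentation

/-- **The scheme of isomorphisms**, arbitrary base and test schemes. -/
theorem exists_isoG [LocallyOfFinitePresentation f] {E₁ E₂ : X.Modules} (h₁ : Gd f E₁) (h₂ : Gd f E₂) :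
    ∃ R : IsoG f E₁ E₂, IsAffineHom R.z ∧ LocallyOfFinitePresentation R.z := by
  obtain ⟨Z, z, pt, ⟨hP1, hP2⟩, hK, hu⟩ := exists_universal (f := f) (G := E₁)
    (locP_cart (Models2.FPCoh.isQCoh_of_isFP h₂.fp)) (Models2.FPCoh.isQCoh_of_isFP h₁.fp) AffLfp (by
      intro A j hj
      obtain ⟨R, h3, h4⟩ := local_isoRep h₁ h₂ j (πV j E₁) (πV j E₂) rfl (cart_πV j E₁) (cart_πV j E₂) (sqV j)
      refine ⟨R.Z, R.z, R.pt, ⟨h3, h4⟩, R.cart.comp (cart_πV j E₂), ?_⟩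
      intro T hT u s hs
      refine univ_affine (K := fun _ χ => Cart χ) R.pt (fun s hs => R.univ s hs) s ?_
      exact (cart_πV j E₂).of_comp hs)
  exact ⟨⟨Z, z, pt, hK, fun s hs => hu s hs⟩, hP1, hP2⟩

/-- The scheme of homomorphisms, for all test schemes. -/
structure HomG (f : X ⟶ U) (E G : X.Modules) where
  Z : Scheme.{u}
  z : Z ⟶ U
  pt : Pt f E G z
  univ : ∀ {T : Scheme.{u}} {u : T ⟶ U} (s : Pt f E G u), ∃! t : T ⟶ Z, t ≫ z = u ∧ pt.Rel s t

/-- **The scheme of homomorphisms**, arbitrary base and test schemes: `E` finitely presented, `G` finitely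
presented, flat over the base, with proper support. -/
theorem exists_homG [LocallyOfFinitePresentation f] {E G : X.Modules} (hE : CohB1.IsFP E) (hG : Gd f G) :
    ∃ R : HomG f E G, IsAffineHom R.z ∧ LocallyOfFinitePresentation R.z := by
  obtain ⟨Z, z, pt, ⟨hP1, hP2⟩, -, hu⟩ := exists_universal (f := f) (G := G)
    (locP_true E) (Models2.FPCoh.isQCoh_of_isFP hG.fp) AffLfp (by
      intro A j hj
      obtain ⟨R, h3, h4⟩ := local_homRep hE hG j (πV j E) (πV j G) (cart_πV j E) (cart_πV j G) (sqV j)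
      exact ⟨R.Z, R.z, R.pt, ⟨h3, h4⟩, trivial, fun s _ => univ_affine (K := fun _ _ => True) R.pt
        (fun s _ => R.univ s) s trivial⟩)
  exact ⟨⟨Z, z, pt, fun s => hu s trivial⟩, hP1, hP2⟩

section Fam

variable {X S : Scheme.{u}} {f : X ⟶ S}

theorem gd_of_hom {A B : Obj f} (φ : B ⟶ A) (h : Gd A.q A.E) : Gd B.q B.E :=
  Gd.baseChange ((ofObj f).map φ) (cart_ofObj φ) φ.isPullback_top h

theorem gd₁ (A B : Obj f) (h : Gd A.q A.E) : Gd (fY A B) (E₁ A B) :=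
  Gd.baseChange (π₁ A B) (cart_π₁ A B) (sqY A B) h

theorem sqY₂ (A B : Obj f) : IsPullback (j₂ A B) (fY A B) B.q (pullback.snd A.base.hom B.base.hom) := by
  refine IsPullback.of_right ?_ (j₂_q A B) B.isPullback
  rw [j₂_p, ← pullback.condition]
  exact (sqY A B).paste_horiz A.isPullback

theorem gd₂ (A B : Obj f) (h : Gd B.q B.E) : Gd (fY A B) (E₂ A B) :=
  Gd.baseChange (π₂ A B) (cart_π₂ A B) (sqY₂ A B) h

instance lfp_fY [LocallyOfFinitePresentation f] (A B : Obj f) : LocallyOfFinitePresentation (fY A B) :=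
  MorphismProperty.of_isPullback ((sqY A B).paste_horiz A.isPullback) ‹_›

theorem gd_of_isProper [IsProper f] {A : Obj f} (h : IsCohObj A) : Gd A.q A.E := by
  have : IsProper A.q := MorphismProperty.of_isPullback A.isPullback ‹_›
  exact Gd.of_proper h.2 h.1

end Fam

end K599.IsoGlue
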