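import Groth.Agent.ModSt.K599.PR
import Groth.Agent.ModSt.K599.IsoGlue

/-!
# Products in the stack of coherent modules of a proper morphism
-/

set_option autoImplicit false
universe u
open CategoryTheory CategoryTheory.Limits AlgebraicGeometry Opposite TopologicalSpace ModSt

namespace K599.ArtinPR

open K599.LMod K599.Rep K599.IsoRep K599.Prod K599.Good K599.RepSupp K599.IsoGlue K599.PR

section

variable {X S : Scheme.{u}} {f : X ⟶ S}

/-- **Products exist** in the stack of coherent modules of a proper morphism of finite presentation. -/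
theorem exists_prod_coh (f : X ⟶ S) [IsProper f] [LocallyOfFinitePresentation f] (x y : (Coh f).obj) :
    ∃ (w : (Coh f).obj) (p : w ⟶ x) (q : w ⟶ y),
    (∀ (z : (Coh f).obj) (a : z ⟶ x) (b : z ⟶ y), ∃! c : z ⟶ w, c ≫ p = a ∧ c ≫ q = b) ∧
      ((@IsAffineHom : MorphismProperty Scheme.{u}) ⊓ @LocallyOfFinitePresentation)
        (pullback.lift ((Coh f).p.map p).left ((Coh f).p.map q).left
        ((Over.w ((Coh f).p.map p)).trans (Over.w ((Coh f).p.map q)).symm) :
          ((Coh f).p.obj w).left ⟶ pullback ((Coh f).p.obj x).hom ((Coh f).p.obj y).hom) :=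
  exists_prod IsCohObj (fun φ h => K927.ModSt.isCohObj_of_hom φ h) _ (fun A B hA hB => by
    obtain ⟨R, h1, h2⟩ := exists_isoG (gd₁ A B (gd_of_isProper hA)) (gd₂ A B (gd_of_isProper hB))
    exact ⟨R, h1, h2⟩) x y

end

/-- The axiom (PR) of Artin's theorem. -/
theorem artin_pr {Λ : Type u} [CommRing Λ] {X : Scheme.{u}} (f : X ⟶ Spec (CommRingCat.of Λ)) [IsProper f]
    [LocallyOfFinitePresentation f] : K607.Artin.PR (Coh f) := by
  intro x y
  obtain ⟨w, p, q, h1, -, h2⟩ := exists_prod_coh f x y
  refine ⟨w, p, q, h1, ?_⟩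
  have := h2
  infer_instance

end K599.ArtinPR
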