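import Groth.Agent.PerfC.CyclicGlue
import Groth.Agent.PerfB.TildeExact

/-!
# Morphisms of modules on affine opens
-/

set_option autoImplicit false
universe u

open CategoryTheory CategoryTheory.Limits AlgebraicGeometry Opposite TopologicalSpace
open Groth.Agent.PerfC.CyclicGlue

noncomputable section

namespace Groth.Agent.ModSt.K599.Aff

variable {X : Scheme.{u}}

/-- Sections agreeing on affine opens are equal. -/
theorem sec_ext (N : X.Modules) {V : X.Opens} (s t : Γ(N, V))
    (h : ∀ (W : X.Opens) (hW : W ≤ V), IsAffineOpen W → res N hW s = res N hW t) : s = t := by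
  refine eq_of_locally N s t fun x hx => ?_
  obtain ⟨W, hW, hxW, hWU⟩ := exists_isAffineOpen_mem_and_subset (x := x) (U := V) hx
  exact ⟨W, hWU, hxW, h W hWU hW⟩

/-- Morphisms agreeing on affine opens are equal. -/
theorem hom_ext_affine {M N : X.Modules} {φ ψ : M ⟶ N}
    (h : ∀ V : X.Opens, IsAffineOpen V → ∀ x : Γ(M, V), φ.app V x = ψ.app V x) : φ = ψ := by
  refine Scheme.Modules.hom_ext _ _ fun U => ?_
  ext x
  refine sec_ext N _ _ fun W hW hWa => ?_
  rw [← app_res, ← app_res]
  exact h W hWa _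

theorem mono_of_affine {M N : X.Modules} (φ : M ⟶ N)
    (h : ∀ V : X.Opens, IsAffineOpen V → Function.Injective (φ.app V)) : Mono φ := by
  refine PerfB.TildeExact.mono_of_app_injective φ (fun U s t hst => ?_)
  refine sec_ext M s t fun W hW hWa => ?_
  apply h W hWa
  rw [app_res, app_res, hst]

/-- A morphism of presheaves on sections. -/
def ap {M N : X.Modules} (σ : M.presheaf ⟶ N.presheaf) (V : X.Opens) (x : Γ(M, V)) : Γ(N, V) :=
  (σ.app (op V)).hom x

theorem ap_res {M N : X.Modules} (σ : M.presheaf ⟶ N.presheaf) {V W : X.Opens} (hW : W ≤ V) (x : Γ(M, V)) :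
    ap σ W (res M hW x) = res N hW (ap σ V x) :=
  ConcreteCategory.congr_hom (σ.naturality (homOfLE hW).op) x

/-- A morphism of the underlying presheaves of abelian groups which is linear on affine opens is a morphism of
modules. -/
theorem exists_hom {M N : X.Modules} (σ : M.presheaf ⟶ N.presheaf)
    (h : ∀ V : X.Opens, IsAffineOpen V → ∀ (r : Γ(X, V)) (x : Γ(M, V)), ap σ V (r • x) = r • ap σ V x) :
    ∃ φ : M ⟶ N, ∀ (U : X.Opens) (x : Γ(M, U)), φ.app U x = ap σ U x := by
  have hlin : ∀ (U : X.Opens) (r : Γ(X, U)) (x : Γ(M, U)), ap σ U (r • x) = r • ap σ U x := by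
    intro U r x
    refine sec_ext N _ _ fun W hW hWa => ?_
    rw [res_smul, ← ap_res, ← ap_res, res_smul, h W hWa]
  let v : M.val ⟶ N.val := PresheafOfModules.homMk σ (fun U r x => hlin U.unop r x)
  exact ⟨⟨v⟩, fun U x => rfl⟩

end Groth.Agent.ModSt.K599.Aff
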