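import Mathlib.CategoryTheory.Adjunction.AdjointFunctorTheorems
import Mathlib.CategoryTheory.Abelian.GrothendieckCategory.Coseparator
import Mathlib.Algebra.Category.ModuleCat.AB
import Mathlib.Algebra.Category.ModuleCat.Products
import Mathlib.Algebra.Category.ModuleCat.Subobject
import Mathlib.CategoryTheory.Limits.Constructions.LimitsOfProductsAndEqualizers
import Mathlib.CategoryTheory.Limits.Preserves.Shapes.Products

/-!
# Left exact functors on modules which commute with products are corepresentable
-/

set_option autoImplicit false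

universe u

open CategoryTheory CategoryTheory.Limits

namespace Groth.Agent.ModSt.K599.Corep

variable {A : Type u} [CommRing A] (H : ModuleCat.{u} A ⥤ ModuleCat.{u} A)

/-- `H` commutes with products, concretely. -/
def PrH : Prop :=
  ∀ (J : Type u) (M : J → Type u) [∀ j, AddCommGroup (M j)] [∀ j, Module A (M j)],
    Function.Bijective (fun (y : H.obj (ModuleCat.of A (∀ j, M j))) (j : J) =>
      H.map (ModuleCat.ofHom (LinearMap.proj j : (∀ j, M j) →ₗ[A] M j)) y)

variable {H}

theorem preservesProducts (h : PrH H) (J : Type u) : PreservesLimitsOfShape (Discrete J) H := by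
  suffices hZ : ∀ Z : J → ModuleCat.{u} A, PreservesLimit (Discrete.functor Z) H from
    preservesLimitsOfShape_of_discrete H
  intro Z
  refine preservesLimit_of_preserves_limit_cone (ModuleCat.productConeIsLimit Z) ?_
  let c : Fan (fun j => H.obj (Z j)) := Fan.mk (H.obj (ModuleCat.of A (∀ j, Z j)))
    (fun j => H.map (ModuleCat.ofHom (LinearMap.proj j)))
  have hc : IsLimit c := by
    let c' := ModuleCat.productCone (fun j => H.obj (Z j))
    have hc' := ModuleCat.productConeIsLimit (fun j => H.obj (Z j))
    let l : c.pt ⟶ c'.pt := ModuleCat.ofHom (LinearMap.pi fun j =>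
      (H.map (ModuleCat.ofHom (LinearMap.proj j : (∀ j, Z j) →ₗ[A] Z j))).hom)
    have hl : Function.Bijective l.hom := h J (fun j => Z j)
    have : IsIso l := (ConcreteCategory.isIso_iff_bijective l).2 hl
    exact IsLimit.ofIsoLimit hc' (Cone.ext (asIso l).symm (fun j => by
      rw [Iso.symm_hom, asIso_inv, IsIso.eq_inv_comp]
      rfl))
  exact (isLimitMapConeFanMkEquiv H _ _).symm hc

theorem preservesLimits [PreservesFiniteLimits H] (h : PrH H) : PreservesLimits H := by
  have := fun J : Type u => preservesProducts h J
  exact preservesLimits_of_preservesEqualizers_and_products H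

theorem exists_corep [PreservesFiniteLimits H] (h : PrH H) :
    ∃ (Q : ModuleCat.{u} A) (x : H.obj Q), ∀ M : ModuleCat.{u} A,
      Function.Bijective (fun φ : Q ⟶ M => H.map φ x) := by
  have := preservesLimits h
  have hH : H.IsRightAdjoint := by
    have hs := isCoseparator_coseparator (ModuleCat.{u} A)
    exact isRightAdjoint_of_preservesLimits_of_isCoseparating hs H
  let adj := Adjunction.ofIsRightAdjoint H
  refine ⟨(H.leftAdjoint).obj (ModuleCat.of A A), (adj.unit.app (ModuleCat.of A A)).hom (1 : A), fun M => ?_⟩
  let e : (ModuleCat.of A A ⟶ H.obj M) ≃ H.obj M :=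
    (ModuleCat.homEquiv).trans (LinearMap.ringLmapEquivSelf A A (H.obj M)).toEquiv
  have : (fun φ : (H.leftAdjoint).obj (ModuleCat.of A A) ⟶ M =>
      H.map φ ((adj.unit.app (ModuleCat.of A A)).hom (1 : A))) =
      e ∘ adj.homEquiv (ModuleCat.of A A) M := by
    funext φ
    rw [Function.comp_apply, adj.homEquiv_unit]
    rfl
  rw [this]
  exact e.bijective.comp (adj.homEquiv _ _).bijective

end Groth.Agent.ModSt.K599.Corep
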