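import Groth.Agent.ModSt.K599.ProdFun
import Groth.Agent.ModSt.K599.Aff
import Mathlib.Algebra.Homology.DerivedCategory.SingleTriangle
import Groth.Agent.PerfA.PerfInd
import Groth.Agent.PerfA.HypAffine
import Groth.Agent.Ega3B.MasterAsm
import Groth.Agent.Ega3B.SectExact
import Groth.Prelude.Def_KLin

/-!
# `Ext^n(P, G ⊗_A N)` for `P` perfect and `N` flat

For a quasi-compact quasi-separated scheme `X` over `Spec A`, `G` quasi-coherent and flat over `A`, `P` a perfect
complex on `X` and `N` a flat `A`-module, `Hom(P, G[n]) ⊗_A N → Hom(P, (G ⊗_A N)[n])` is bijective.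
-/

set_option autoImplicit false
universe u
open CategoryTheory CategoryTheory.Limits AlgebraicGeometry Opposite TopologicalSpace TensorProduct
open CategoryTheory.Pretriangulated
attribute [local instance] HasDerivedCategory.standard

namespace Groth.Agent.ModSt.K599.ExtA

open Groth.Agent.PerfA.ExtZero Groth.Agent.PerfA.Hyp1

variable {A : Type u} [CommRing A] {X : Scheme.{u}} [X.Over (Spec (CommRingCat.of A))]

section TensorA

variable (A) in
/-- `N ↦ G ⊗_A N`. -/
noncomputable abbrev TA (G : X.Modules) : ModuleCat.{u} A ⥤ X.Modules := CohIII.tensorAFunctor A G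

noncomputable instance linear_TA (G : X.Modules) : (TA A G).Linear A where
  map_smul {M N} f a := by
    have h1 : a • f = (a • 𝟙 M) ≫ f := by rw [Linear.smul_comp, Category.id_comp]
    rw [h1, Functor.map_comp, Ega3B.TensorAUnit.tensorAFunctor_map_smul]
    rfl

theorem preservesMonomorphisms_TA {G : X.Modules} (hG : Coh.IsQCoh G)
    (hfl : FlatMod.IsFlatOver (X ↘ Spec (CommRingCat.of A)) G) : (TA A G).PreservesMonomorphisms :=
  ⟨fun {N N'} φ hφ => by
    refine Aff.mono_of_affine _ fun V hV => ?_
    have h3 := Ega3B.TensorASec.preservesMono_secFun (A := A) G hG hV hfl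
    exact (AddCommGrpCat.mono_iff_injective _).1 (h3.preserves φ)⟩

/-- `N ↦ f^* N~`. -/
noncomputable abbrev pullTil (f : X ⟶ Spec (CommRingCat.of A)) : ModuleCat.{u} A ⥤ X.Modules :=
  tilde.functor (CommRingCat.of A) ⋙ Scheme.Modules.pullback f

omit [X.Over (Spec (CommRingCat.of A))] in
theorem isLeftAdjoint_pullTil (f : X ⟶ Spec (CommRingCat.of A)) : (pullTil f).IsLeftAdjoint :=
  ((tilde.adjunction (R := CommRingCat.of A)).comp
    (Scheme.Modules.pullbackPushforwardAdjunction f)).isLeftAdjoint

instance preservesFiniteColimits_TA (G : X.Modules) : PreservesFiniteColimits (TA A G) := by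
  have h0 := isLeftAdjoint_pullTil (X ↘ Spec (CommRingCat.of A))
  have h1 : PreservesColimitsOfSize.{0, 0} (pullTil (X ↘ Spec (CommRingCat.of A))) :=
    (Adjunction.ofIsLeftAdjoint (pullTil (X ↘ Spec (CommRingCat.of A)))).leftAdjoint_preservesColimits
  have h3 : PreservesFiniteColimits (pullTil (X ↘ Spec (CommRingCat.of A))) :=
    PreservesColimitsOfSize.preservesFiniteColimits _
  have h2 : PreservesFiniteColimits (DCoh.tensorRightMod G) :=
    Ega3B.SectExact.preservesFiniteColimits_tensorRightMod G
  exact comp_preservesFiniteColimits (pullTil (X ↘ Spec (CommRingCat.of A))) (DCoh.tensorRightMod G)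

theorem preservesFiniteLimits_TA {G : X.Modules} (hG : Coh.IsQCoh G)
    (hfl : FlatMod.IsFlatOver (X ↘ Spec (CommRingCat.of A)) G) : PreservesFiniteLimits (TA A G) := by
  have h1 := preservesMonomorphisms_TA hG hfl
  have h2 : (TA A G).PreservesHomology :=
    Functor.preservesHomology_of_preservesMonos_and_cokernels _
  exact Functor.preservesFiniteLimits_of_preservesHomology _

open Groth.Agent.Ega3B.TensorASec in
/-- The map `N ⊗_A Γ(G, U) → Γ(G ⊗_A N, U)`. -/
noncomputable def th (G : X.Modules) (N : ModuleCat.{u} A) (U : X.Opens) :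
    letI := modSec A G U
    N ⊗[A] Γ(G, U) →+ Γ((TA A G).obj N, U) :=
  Ega3B.TensorASec.theta G N U

open Groth.Agent.Ega3B.TensorASec in
theorem th_bijective {G : X.Modules} (hG : Coh.IsQCoh G) (N : ModuleCat.{u} A) {U : X.Opens} (hU : IsAffineOpen U) :
    Function.Bijective (th G N U) := bijective_theta G hG N hU

open Groth.Agent.Ega3B.TensorASec in
theorem th_map (G : X.Modules) {N N' : ModuleCat.{u} A} (g : N ⟶ N') (U : X.Opens)
    (z : letI := modSec A G U; N ⊗[A] Γ(G, U)) :
    letI := modSec A G U
    ((TA A G).map g).app U (th G N U z) = th G N' U (g.hom.rTensor Γ(G, U) z) := theta_map G g U z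

open Groth.Agent.Ega3B.TensorASec in
theorem th_res (G : X.Modules) (N : ModuleCat.{u} A) {V W : X.Opens} (h : W ≤ V) (n : N) (s : Γ(G, V)) :
    letI := modSec A G V
    letI := modSec A G W
    PerfC.CyclicGlue.res ((TA A G).obj N) h (th G N V (n ⊗ₜ[A] s)) =
      th G N W (n ⊗ₜ[A] (PerfC.CyclicGlue.res G h s)) := theta_res G N h n s

end TensorA

section Phi

/-- `N ↦ G ⊗_A N` as a functor to `D(O_X)`. -/
noncomputable abbrev Phi (A : Type u) [CommRing A] {X : Scheme.{u}} [X.Over (Spec (CommRingCat.of A))]
    (G : X.Modules) : ModuleCat.{u} A ⥤ DCoh.D X :=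
  TA A G ⋙ DerivedCategory.singleFunctor X.Modules 0

noncomputable instance (G : X.Modules) : (Phi A G).Additive := inferInstance

noncomputable instance (G : X.Modules) : (Phi A G).Linear A := inferInstance

/-- Short exact sequences of modules give distinguished triangles. -/
noncomputable def triData {G : X.Modules} (hG : Coh.IsQCoh G)
    (hfl : FlatMod.IsFlatOver (X ↘ Spec (CommRingCat.of A)) G) : ProdFun.TriData (Phi A G) :=
  letI := preservesFiniteLimits_TA hG hfl
  { δ := fun hS => (hS.map_of_exact (TA A G)).singleδ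
    dist := fun hS => (hS.map_of_exact (TA A G)).singleTriangle_distinguished
    nat := fun hS hS' φ => ((ShortComplex.ShortExact.singleTriangle.map (hS.map_of_exact (TA A G))
      (hS'.map_of_exact (TA A G)) ((TA A G).mapShortComplex.map φ)).comm₃).symm }

end Phi

end Groth.Agent.ModSt.K599.ExtA
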