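import Groth.Agent.ModSt.K599.ExtA
import Groth.Agent.PerfA.QCohD

/-!
# `Hom(P, G[n]) ⊗_A N = Hom(P, (G ⊗_A N)[n])` for `P` perfect and `N` flat
-/

set_option autoImplicit false
universe u
open CategoryTheory CategoryTheory.Limits AlgebraicGeometry Opposite TopologicalSpace TensorProduct
open CategoryTheory.Pretriangulated
attribute [local instance] HasDerivedCategory.standard

namespace Groth.Agent.ModSt.K599.ExtB

open Groth.Agent.PerfA.ExtZero Groth.Agent.PerfA.Hyp1 ExtA Groth.Agent.Ega3B.TensorASec

variable {A : Type u} [CommRing A] {X : Scheme.{u}} [X.Over (Spec (CommRingCat.of A))]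

section OU

variable (G : X.Modules) (U : X.Opens)

/-- Maps from `j_! O_U` are sections. -/
noncomputable def inc (N : ModuleCat.{u} A) (s : Γ((TA A G).obj N, U)) :
    DCoh.inD X (OU U) ⟶ (Phi A G).obj N :=
  (DerivedCategory.singleFunctor X.Modules 0).map (desc s)

theorem inc_add (N : ModuleCat.{u} A) (s t : Γ((TA A G).obj N, U)) :
    inc G U N (s + t) = inc G U N s + inc G U N t := by
  rw [inc, desc_add, Functor.map_add]; rfl

theorem inc_comp {N N' : ModuleCat.{u} A} (g : N ⟶ N') (s : Γ((TA A G).obj N, U)) :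
    inc G U N s ≫ (Phi A G).map g = inc G U N' (((TA A G).map g).app U s) := by
  change (DerivedCategory.singleFunctor X.Modules 0).map (desc s) ≫
    (DerivedCategory.singleFunctor X.Modules 0).map ((TA A G).map g) = _
  rw [← Functor.map_comp, desc_comp]
  rfl

theorem inc_bijective (N : ModuleCat.{u} A) : Function.Bijective (inc G U N) := by
  constructor
  · intro s t h
    exact desc_injective ((DerivedCategory.singleFunctor X.Modules 0).map_injective h)
  · intro y
    obtain ⟨v, hv⟩ := (DerivedCategory.singleFunctor X.Modules 0).map_surjective y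
    obtain ⟨s, hs⟩ := desc_surjective v
    exact ⟨s, by rw [inc, ← hs, hv]⟩

variable {G U} (hG : Coh.IsQCoh G) (hU : IsAffineOpen U)

/-- `Γ(G, U) → Hom(j_! O_U, G ⊗_A A)`. -/
noncomputable def jA :
    letI := modSec A G U
    Γ(G, U) ≃ₗ[A] (DCoh.inD X (OU U) ⟶ (Phi A G).obj (ModuleCat.of A A)) :=
  letI := modSec A G U
  LinearEquiv.ofBijective
    { toFun := fun s => inc G U (ModuleCat.of A A) (th G (ModuleCat.of A A) U ((1 : A) ⊗ₜ[A] s))
      map_add' := fun s t => by rw [TensorProduct.tmul_add, map_add, inc_add]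
      map_smul' := fun a s => by
        have h1 : ((1 : A) ⊗ₜ[A] (a • s) : A ⊗[A] Γ(G, U)) =
            ((a • 𝟙 (ModuleCat.of A A)) : ModuleCat.of A A ⟶ ModuleCat.of A A).hom.rTensor Γ(G, U)
              ((1 : A) ⊗ₜ[A] s) := by
          rw [LinearMap.rTensor_tmul, TensorProduct.tmul_smul, TensorProduct.smul_tmul']
          rfl
        have h2 := th_map G (a • 𝟙 (ModuleCat.of A A)) U ((1 : A) ⊗ₜ[A] s)
        rw [h1, ← h2, ← inc_comp, Functor.map_smul, CategoryTheory.Functor.map_id, Linear.comp_smul, Category.comp_id]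
        rfl }
    (by
      refine (inc_bijective G U _).comp ((th_bijective hG (ModuleCat.of A A) hU).comp ?_)
      exact (TensorProduct.lid A Γ(G, U)).symm.bijective)

theorem jA_apply (s : Γ(G, U)) :
    letI := modSec A G U
    jA (A := A) hG hU s = inc G U (ModuleCat.of A A) (th G (ModuleCat.of A A) U ((1 : A) ⊗ₜ[A] s)) := rfl

include hG hU in
/-- The comparison for `j_! O_U`, `U` affine. -/
theorem theta_bijective_OU (N : Type u) [AddCommGroup N] [Module A N] :
    Function.Bijective (Theta.theta (ProdFun.ev (Phi A G) N) (DCoh.inD X (OU U))) := by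
  let _ := modSec A G U
  let e := (jA (A := A) hG hU).rTensor N
  have h1 : ∀ z : Γ(G, U) ⊗[A] N, Theta.theta (ProdFun.ev (Phi A G) N) (DCoh.inD X (OU U)) (e z) =
      inc G U (ModuleCat.of A N) (th G (ModuleCat.of A N) U (TensorProduct.comm A _ _ z)) := by
    intro z
    induction z using TensorProduct.induction_on with
    | zero =>
      rw [map_zero, map_zero, map_zero, map_zero]
      exact (Functor.map_zero _ _ _).symm.trans (by rw [inc]; congr 1; exact desc_zero.symm)
    | add x y hx hy => rw [map_add, map_add, hx, hy, map_add, map_add, inc_add]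
    | tmul s n =>
      rw [TensorProduct.comm_tmul, LinearEquiv.rTensor_tmul, Theta.theta_tmul, jA_apply]
      change inc G U (ModuleCat.of A A) (th G (ModuleCat.of A A) U ((1 : A) ⊗ₜ[A] s)) ≫
        (Phi A G).map (ModuleCat.ofHom (LinearMap.toSpanSingleton A N n)) = _
      rw [inc_comp, th_map, LinearMap.rTensor_tmul]
      congr 3
      exact one_smul A n
  have h2 : Function.Bijective (Theta.theta (ProdFun.ev (Phi A G) N) (DCoh.inD X (OU U)) ∘ e) := by
    have : (Theta.theta (ProdFun.ev (Phi A G) N) (DCoh.inD X (OU U)) ∘ e : _ → _) =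
        inc G U (ModuleCat.of A N) ∘ th G (ModuleCat.of A N) U ∘ (TensorProduct.comm A _ _) := funext h1
    rw [this]
    exact (inc_bijective G U _).comp ((th_bijective hG (ModuleCat.of A N) hU).comp
      (TensorProduct.comm A _ _).bijective)
  exact (Function.Bijective.of_comp_iff _ e.bijective).1 h2

include hG hU in
theorem subsingleton_OU (n : ℤ) (hn : n ≠ 0) (N : ModuleCat.{u} A) :
    Subsingleton ((DCoh.inD X (OU U))⟦n⟧ ⟶ (Phi A G).obj N) := by
  have e : (DCoh.inD X (OU U))⟦n⟧ ≅ P (-n) U :=
    ((DerivedCategory.singleFunctors X.Modules).shiftIso n (-n) 0 (by ring)).app (OU U)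
  have hq : DCoh.IsQCohD ((Phi A G).obj N) :=
    PerfA.QCohD.isQCohD_inD _ (Ega3B.MasterAsm.isQCoh_tensorAFunctor G hG N)
  have h0 : IsZero (DCoh.HD ((Phi A G).obj N) (-n)) := by
    rcases lt_or_gt_of_ne hn with h | h
    · exact DerivedCategory.isZero_of_isLE (DCoh.inD X ((TA A G).obj N)) 0 _ (by omega)
    · exact DerivedCategory.isZero_of_isGE (DCoh.inD X ((TA A G).obj N)) 0 _ (by omega)
  have h1 := PerfA.HypAffine.toHD_bijective _ hq U hU (-n)
  have h2 : Subsingleton (P (-n) U ⟶ (Phi A G).obj N) := by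
    refine ⟨fun a b => h1.1 ?_⟩
    have h3 : ∀ x : Γ(DCoh.HD ((Phi A G).obj N) (-n), U), x = 0 := fun x =>
      congr($(h0.eq_of_src (𝟙 _) 0).app U x)
    exact (h3 _).trans (h3 _).symm
  exact ⟨fun a b => by
    rw [← cancel_epi e.inv]
    exact Subsingleton.elim _ _⟩

include hG hU in
theorem good_OU (N : Type u) [AddCommGroup N] [Module A N] :
    Theta.good (ProdFun.ev (Phi A G) N) (DCoh.inD X (OU U)) := by
  intro n
  by_cases hn : n = 0
  · subst hn
    exact Theta.theta_bijective_of_iso _ ((shiftFunctorZero (DCoh.D X) ℤ).app _)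
      (theta_bijective_OU hG hU N)
  · have h1 := subsingleton_OU (A := A) hG hU n hn (ModuleCat.of A A)
    have h2 := subsingleton_OU (A := A) hG hU n hn (ModuleCat.of A N)
    constructor
    · intro x y _
      have h3 : ∀ z : ((DCoh.inD X (OU U))⟦n⟧ ⟶ (Phi A G).obj (ModuleCat.of A A)) ⊗[A] N, z = 0 := by
        intro z
        induction z using TensorProduct.induction_on with
        | zero => rfl
        | add x y hx hy => rw [hx, hy, add_zero]
        | tmul f n => rw [Subsingleton.elim f 0, TensorProduct.zero_tmul]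
      rw [h3 x, h3 y]
    · intro y
      exact ⟨0, Subsingleton.elim _ _⟩

end OU

/-- **`Hom(P, G[n]) ⊗_A N = Hom(P, (G ⊗_A N)[n])` for `P` perfect and `N` flat.** -/
theorem good_of_isPerfect [CompactSpace X] [QuasiSeparatedSpace X] {G : X.Modules} (hG : Coh.IsQCoh G)
    (N : Type u) [AddCommGroup N] [Module A N] [Module.Flat A N] (K : DCoh.D X) (hK : DCoh.IsPerfect K) :
    Theta.good (ProdFun.ev (Phi A G) N) K := by
  have := Theta.isTriangulated_good (ProdFun.ev (Phi A G) N)
  exact PerfA.PerfInd.prop_of_isPerfect _ (fun U hU => good_OU hG hU N) K hK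

end Groth.Agent.ModSt.K599.ExtB
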