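import Groth.Agent.ModSt.K599.ExtB
import Groth.Agent.S1011
import Groth.Agent.S1039
import Groth.Agent.PerfA.PCohQCoh
import Mathlib.AlgebraicGeometry.Morphisms.Proper

/-!
# `N ↦ Hom(P, G ⊗_A N)` commutes with products

`X` proper over a Noetherian ring `A`, `G` coherent and flat over `A`, `P` perfect (or a coherent module in degree
zero).
-/

set_option autoImplicit false
universe u
open CategoryTheory CategoryTheory.Limits AlgebraicGeometry Opposite TopologicalSpace TensorProduct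
open CategoryTheory.Pretriangulated
attribute [local instance] HasDerivedCategory.standard

namespace Groth.Agent.ModSt.K599.ExtC

open ExtA ExtB

variable {A : Type u} [CommRing A] {X : Scheme.{u}} [X.Over (Spec (CommRingCat.of A))]

/-- Finiteness of the morphisms between bounded above and bounded below complexes with coherent cohomology. -/
def ExtFinite (A : Type u) [CommRing A] (X : Scheme.{u}) [X.Over (Spec (CommRingCat.of A))] : Prop :=
  ∀ (K L : DCoh.D X), DCoh.IsCohD K → (∃ b : ℤ, K.IsLE b) → DCoh.IsCohD L → (∃ a : ℤ, L.IsGE a) →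
    ∀ n : ℤ, Module.Finite A (K ⟶ L⟦n⟧)

theorem finite_of_iso {C : Type*} [Category* C] [Preadditive C] [Linear A C] {K K' L L' : C} (e : K ≅ K')
    (e' : L ≅ L') (h : Module.Finite A (K ⟶ L)) : Module.Finite A (K' ⟶ L') := by
  refine Module.Finite.of_surjective (Linear.leftComp A L' e.inv ∘ₗ Linear.rightComp A K e'.hom) ?_
  intro f
  exact ⟨e.hom ≫ f ≫ e'.inv, by simp⟩

section Perfect

theorem isCohD_of_isPerfect [IsNoetherian X] {K : DCoh.D X} (hK : DCoh.IsPerfect K) :
    DCoh.IsCohD K ∧ ∃ b : ℤ, K.IsLE b := by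
  have h := fun m : ℤ => (S1039.result X K (PerfA.PCohQCoh.isQCohD_of_isPerfect hK) m).1
    (PerfA.PCohQCoh.isPseudoCoherentD_of_isPerfect hK m)
  exact ⟨fun i => (h i).1 i le_rfl, (h 0).2⟩

variable [IsNoetherianRing A] {G : X.Modules}

omit [IsNoetherianRing A] in
theorem finite_hom [IsNoetherian X] (hX : ExtFinite A X) (hG : Coh.IsCoh G) {K : DCoh.D X} (hK : DCoh.IsPerfect K) :
    Module.Finite A (K ⟶ (Phi A G).obj (ModuleCat.of A A)) := by
  have e : DCoh.inD X G ≅ (Phi A G).obj (ModuleCat.of A A) :=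
    (DerivedCategory.singleFunctor X.Modules 0).mapIso (Ega3B.TensorAUnit.unitIso G).symm
  have h1 := hX K (DCoh.inD X G) (isCohD_of_isPerfect hK).1 (isCohD_of_isPerfect hK).2
    (PerfA.QCohD.isCohD_inD G hG) ⟨0, inferInstance⟩ 0
  exact finite_of_iso (Iso.refl K) ((shiftFunctorZero (DCoh.D X) ℤ).app _ ≪≫ e) h1

omit [IsNoetherianRing A] in
/-- Vanishing in large degrees. -/
theorem subsingleton_hom [CompactSpace X] [QuasiSeparatedSpace X] (hG : Coh.IsQCoh G) {K : DCoh.D X}
    (hK : DCoh.IsPerfect K) : ∃ b : ℕ, ∀ n : ℕ, b ≤ n → ∀ N : ModuleCat.{u} A,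
      Subsingleton (K⟦(-n : ℤ)⟧ ⟶ (Phi A G).obj N) := by
  obtain ⟨a, b, hab, h⟩ := (S1011.result X K hK).1
  refine ⟨(-a).toNat + 1, fun n hn N => ?_⟩
  let F := (TA A G).obj N
  have hF : Coh.IsQCoh F := Ega3B.MasterAsm.isQCoh_tensorAFunctor G hG N
  have e : (DCoh.inD X F)⟦(n : ℤ)⟧ ≅ (DerivedCategory.singleFunctor X.Modules (-n : ℤ)).obj F :=
    ((DerivedCategory.singleFunctors X.Modules).shiftIso (n : ℤ) (-n : ℤ) 0 (by ring)).app F
  have hz : ∀ f : K ⟶ (DCoh.inD X F)⟦(n : ℤ)⟧, f = 0 := by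
    intro f
    have h1 : f ≫ e.hom = 0 := by
      refine h _ (PerfA.QCohD.isQCohD_single F hF _) (fun i hi _ => ?_) _
      · exact DerivedCategory.isZero_of_isLE _ (-n : ℤ) _ (by omega)
    rw [← cancel_mono e.hom, h1, zero_comp]
  refine ⟨fun x y => ?_⟩
  have key : ∀ x : K⟦(-n : ℤ)⟧ ⟶ DCoh.inD X F, x = 0 := by
    intro x
    apply (shiftFunctor (DCoh.D X) (n : ℤ)).map_injective
    rw [Functor.map_zero, ← cancel_epi ((shiftFunctorCompIsoId (DCoh.D X) (-n : ℤ) (n : ℤ) (by ring)).inv.app K),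
      comp_zero]
    exact hz _
  exact (key x).trans (key y).symm

/-- **Products**, for perfect complexes. -/
theorem pr_of_isPerfect [IsNoetherian X] (hX : ExtFinite A X) (hG : Coh.IsCoh G)
    (hfl : FlatMod.IsFlatOver (X ↘ Spec (CommRingCat.of A)) G) {K : DCoh.D X} (hK : DCoh.IsPerfect K) :
    ProdFun.Pr (Phi A G) K := by
  obtain ⟨b, hb⟩ := subsingleton_hom (A := A) hG.1 hK
  have h1 := ProdFun.pr_of_bounded (triData (A := A) hG.1 hfl) K b (fun n => by
    have := finite_hom hX hG (PerfA.PerfLocal.isPerfect_shift hK (-n : ℤ))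
    exact ProdFun.prFlat_of_theta _ _ (fun N _ _ _ => good_of_isPerfect hG.1 N K hK (-n : ℤ))) hb
  intro J M _ _
  have h2 := h1 J M
  let e : K⟦(-(0 : ℕ) : ℤ)⟧ ≅ K := (shiftFunctorZero' (DCoh.D X) (-(0 : ℕ) : ℤ) (by simp)).app K
  constructor
  · intro y y' hyy
    have h3 : e.hom ≫ y = e.hom ≫ y' := by
      apply h2.1
      funext j
      have := congrFun hyy j
      simp only [ProdFun.cmp] at this ⊢
      rw [Category.assoc, Category.assoc, this]
    exact (cancel_epi e.hom).1 h3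
  · intro z
    obtain ⟨y, hy⟩ := h2.2 (fun j => e.hom ≫ z j)
    refine ⟨e.inv ≫ y, funext fun j => ?_⟩
    have := congrFun hy j
    simp only [ProdFun.cmp] at this ⊢
    rw [Category.assoc, this, e.inv_hom_id_assoc]

end Perfect

end Groth.Agent.ModSt.K599.ExtC
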