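import Groth.Agent.ModSt.K599.ExtC
import Groth.Agent.ModSt.K599.Corep
import Groth.Agent.FormalB.ModPowAff2
import Groth.Agent.Ega3B.DevQC
import Groth.Agent.S1103

/-!
# `N ↦ Hom(E, G ⊗_A N)` is corepresentable

`X` proper over a Noetherian ring `A`, `E`, `G` coherent, `G` flat over `A`.
-/

set_option autoImplicit false
universe u
open CategoryTheory CategoryTheory.Limits AlgebraicGeometry Opposite TopologicalSpace TensorProduct
open CategoryTheory.Pretriangulated
attribute [local instance] HasDerivedCategory.standard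

namespace Groth.Agent.ModSt.K599.ExtD

open ExtA ExtB ExtC

variable {X : Scheme.{u}}

/-- A perfect complex with the same maps to modules. -/
theorem exists_perfect [IsNoetherian X] {E : X.Modules} (hE : Coh.IsCoh E) :
    ∃ (P : DCoh.D X) (α : P ⟶ DCoh.inD X E), DCoh.IsPerfect P ∧
      ∀ F : X.Modules, Function.Bijective (fun y : DCoh.inD X E ⟶ DCoh.inD X F => α ≫ y) := by
  obtain ⟨r, hr⟩ := S1103.result X Set.univ isClosed_univ (by rw [Set.compl_univ]; exact isCompact_empty)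
  obtain ⟨P, α, hP, -, h1, h2⟩ := hr (-1) (DCoh.inD X E) (PerfA.QCohD.isQCohD_inD E hE.1)
    ((S1039.result X _ (PerfA.QCohD.isQCohD_inD E hE.1) (-1 - r)).2
      ⟨fun i _ => PerfA.QCohD.isCohD_inD E hE i, 0, inferInstance⟩)
    (fun _ _ => Set.subset_univ _)
  refine ⟨P, α, hP, fun F => ?_⟩
  obtain ⟨C, f, g, hT⟩ := distinguished_cocone_triangle₁ α
  have hC : C.IsLE (-1) := by
    rw [DerivedCategory.isLE_iff]
    intro i hi
    refine PerfA.PostTower.isZero_homology_obj₁ _ hT (i - 1) i (by ring) ?_ ?_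
    · rcases eq_or_lt_of_le (show (-1 : ℤ) ≤ i - 1 by omega) with h | h
      · have : i - 1 = -1 := h.symm
        rw [this]
        exact h2
      · have := h1 (i - 1) h
        exact (inferInstance : Epi ((DerivedCategory.homologyFunctor X.Modules (i - 1)).map α))
    · have := h1 i (by omega)
      exact (inferInstance : Mono ((DerivedCategory.homologyFunctor X.Modules i).map α))
  have hC' : DerivedCategory.TStructure.t.IsLE (C⟦(1 : ℤ)⟧) (-2) :=
    DerivedCategory.TStructure.t.isLE_shift C (-1) 1 (-2)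
  constructor
  · intro y y' hy
    rw [← sub_eq_zero]
    have h3 : α ≫ (y - y') = 0 := by rw [Preadditive.comp_sub]; exact sub_eq_zero.2 hy
    obtain ⟨z, hz⟩ := Triangle.yoneda_exact₃ _ hT _ h3
    have hz0 : z = 0 := DerivedCategory.TStructure.t.zero_of_isLE_of_isGE z (-2) 0 (by omega) hC'
      (inferInstanceAs ((DCoh.inD X F).IsGE 0))
    rw [hz, hz0]
    exact comp_zero
  · intro x
    have h3 : f ≫ x = 0 := DerivedCategory.TStructure.t.zero_of_isLE_of_isGE _ (-1) 0 (by omega) hC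
      (inferInstanceAs ((DCoh.inD X F).IsGE 0))
    obtain ⟨y, hy⟩ := Triangle.yoneda_exact₂ _ hT _ h3
    exact ⟨y, hy.symm⟩

variable {A : Type u} [CommRing A] [X.Over (Spec (CommRingCat.of A))]

/-- `N ↦ Hom(E, G ⊗_A N)`. -/
noncomputable abbrev HF (A : Type u) [CommRing A] {X : Scheme.{u}} [X.Over (Spec (CommRingCat.of A))]
    (E G : X.Modules) : ModuleCat.{u} A ⥤ ModuleCat.{u} A :=
  TA A G ⋙ (linearCoyoneda A X.Modules).obj (op E)

theorem HF_map (E G : X.Modules) {N N' : ModuleCat.{u} A} (g : N ⟶ N') (v : E ⟶ (TA A G).obj N) :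
    ((HF A E G).map g).hom v = v ≫ (TA A G).map g := rfl

theorem prH [IsNoetherianRing A] [IsNoetherian X] (hX : ExtFinite A X) {E G : X.Modules} (hE : Coh.IsCoh E)
    (hG : Coh.IsCoh G) (hfl : FlatMod.IsFlatOver (X ↘ Spec (CommRingCat.of A)) G) :
    Corep.PrH (HF A E G) := by
  obtain ⟨P, α, hP, hα⟩ := exists_perfect hE
  have h1 := pr_of_isPerfect hX hG hfl hP
  let e : ∀ N : ModuleCat.{u} A, (E ⟶ (TA A G).obj N) → (P ⟶ (Phi A G).obj N) := fun N v =>
    α ≫ (DerivedCategory.singleFunctor X.Modules 0).map v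
  have he : ∀ N, Function.Bijective (e N) := fun N =>
    (hα ((TA A G).obj N)).comp ⟨(DerivedCategory.singleFunctor X.Modules 0).map_injective,
      (DerivedCategory.singleFunctor X.Modules 0).map_surjective⟩
  have hn : ∀ {N N' : ModuleCat.{u} A} (g : N ⟶ N') (v : E ⟶ (TA A G).obj N),
      e N' (v ≫ (TA A G).map g) = e N v ≫ (Phi A G).map g := by
    intro N N' g v
    simp only [e, Functor.map_comp, Category.assoc]
    rfl
  intro J M _ _
  have h2 := h1 J M
  constructor
  · intro y y' hyy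
    apply (he _).1
    apply h2.1
    funext j
    have h3 : y ≫ (TA A G).map (ModuleCat.ofHom (LinearMap.proj j : (∀ j, M j) →ₗ[A] M j)) =
      y' ≫ (TA A G).map (ModuleCat.ofHom (LinearMap.proj j : (∀ j, M j) →ₗ[A] M j)) := congrFun hyy j
    rw [ProdFun.cmp, ProdFun.cmp, ← hn, ← hn, h3]
  · intro z
    obtain ⟨y, hy⟩ := h2.2 (fun j => e _ (z j))
    obtain ⟨y, rfl⟩ := (he _).2 y
    refine ⟨y, funext fun j => ?_⟩
    apply (he _).1
    have h3 := congrFun hy j
    rw [ProdFun.cmp, ← hn] at h3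
    exact h3

theorem preservesFiniteLimits_HF {E G : X.Modules} (hG : Coh.IsQCoh G)
    (hfl : FlatMod.IsFlatOver (X ↘ Spec (CommRingCat.of A)) G) : PreservesFiniteLimits (HF A E G) := by
  have h1 := preservesFiniteLimits_TA hG hfl
  have h2 : PreservesFiniteLimits ((linearCoyoneda A X.Modules).obj (op E)) := by
    have h3 : PreservesFiniteLimits ((linearCoyoneda A X.Modules).obj (op E) ⋙ forget (ModuleCat.{u} A)) :=
      inferInstanceAs (PreservesFiniteLimits (coyoneda.obj (op E)))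
    exact preservesFiniteLimits_of_reflects_of_preserves _ (forget (ModuleCat.{u} A))
  infer_instance

/-- Maps which vanish on the sections over an affine cover. -/
theorem eq_zero_of_gen {E F : X.Modules} (hE : Coh.IsQCoh E) (v : E ⟶ F) {ι : Type*} (U : ι → X.Opens)
    (hU : ∀ i, IsAffineOpen (U i)) (hc : ∀ x : X, ∃ i, x ∈ U i) {n : ι → ℕ}
    (s : ∀ i, Fin (n i) → Γ(E, U i)) (hs : ∀ i, Submodule.span Γ(X, U i) (Set.range (s i)) = ⊤)
    (h : ∀ i k, v.app (U i) (s i k) = 0) : v = 0 := by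
  refine FormalB.ModPowAff2.eq_zero_of_affine_cover hE v fun x => ?_
  obtain ⟨i, hi⟩ := hc x
  refine ⟨U i, hi, hU i, fun m => ?_⟩
  have hm : m ∈ Submodule.span Γ(X, U i) (Set.range (s i)) := by rw [hs]; trivial
  induction hm using Submodule.span_induction with
  | mem m hm =>
    obtain ⟨k, rfl⟩ := hm
    exact h i k
  | zero => exact map_zero _
  | add a b _ _ ha hb =>
    have : v.app (U i) (a + b) = v.app (U i) a + v.app (U i) b := map_add _ _ _
    rw [this, ha, hb, add_zero]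
  | smul c m _ hm =>
    rw [Scheme.Modules.Hom.app_smul, hm, smul_zero]

/-- **`N ↦ Hom(E, G ⊗_A N)` is corepresented by a finite module.** -/
theorem exists_corep [IsNoetherianRing A] [IsNoetherian X] (hX : ExtFinite A X) {E G : X.Modules}
    (hE : Coh.IsCoh E) (hG : Coh.IsCoh G) (hfl : FlatMod.IsFlatOver (X ↘ Spec (CommRingCat.of A)) G) :
    ∃ (Q : ModuleCat.{u} A) (x : E ⟶ (TA A G).obj Q), Module.Finite A Q ∧ ∀ M : ModuleCat.{u} A,
      Function.Bijective (fun φ : Q ⟶ M => x ≫ (TA A G).map φ) := by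
  have := preservesFiniteLimits_HF (A := A) (E := E) hG.1 hfl
  obtain ⟨Q, x, hx⟩ := Corep.exists_corep (prH hX hE hG hfl)
  refine ⟨Q, x, ?_, hx⟩
  -- a finite affine cover
  obtain ⟨ι, _, U, hU, hcov⟩ := Ega3B.MasterAsm.exists_finite_cover X
  have hc : ∀ y : X, ∃ i, y ∈ U i := fun y => by
    have : y ∈ ⨆ i, U i := by rw [hcov]; trivial
    simpa using this
  have hfin := fun i => Ega3B.DevQC.finite_sections hE (hU i)
  choose n s hs using fun i => (hfin i).exists_fin
  -- the finitely many elements of `Q`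
  have key : ∀ i k, ∃ (Q₀ : Submodule A Q), Q₀.FG ∧ ∀ (M : ModuleCat.{u} A) (φ : Q ⟶ M),
      (∀ q ∈ Q₀, φ.hom q = 0) → (x ≫ (TA A G).map φ).app (U i) (s i k) = 0 := by
    intro i k
    let _ := Ega3B.TensorASec.modSec A G (U i)
    obtain ⟨z, hz⟩ := (th_bijective hG.1 Q (hU i)).2 (x.app (U i) (s i k))
    have hz' : ∃ (Q₀ : Submodule A Q), Q₀.FG ∧ ∀ (M : ModuleCat.{u} A) (φ : Q ⟶ M),
        (∀ q ∈ Q₀, φ.hom q = 0) → φ.hom.rTensor Γ(G, U i) z = 0 := by
      clear hz
      induction z using TensorProduct.induction_on with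
      | zero => exact ⟨⊥, Submodule.fg_bot, fun _ _ _ => map_zero _⟩
      | add a b ha hb =>
        obtain ⟨Qa, h1, h2⟩ := ha
        obtain ⟨Qb, h3, h4⟩ := hb
        refine ⟨Qa ⊔ Qb, h1.sup h3, fun M φ h => ?_⟩
        rw [map_add, h2 M φ (fun q hq => h q (Submodule.mem_sup_left hq)),
          h4 M φ (fun q hq => h q (Submodule.mem_sup_right hq)), add_zero]
      | tmul q g =>
        refine ⟨Submodule.span A {q}, Submodule.fg_span_singleton q, fun M φ h => ?_⟩
        rw [LinearMap.rTensor_tmul, h q (Submodule.mem_span_singleton_self q), TensorProduct.zero_tmul]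
    obtain ⟨Q₀, h1, h2⟩ := hz'
    refine ⟨Q₀, h1, fun M φ h => ?_⟩
    have h3 : (x ≫ (TA A G).map φ).app (U i) (s i k) = ((TA A G).map φ).app (U i) (x.app (U i) (s i k)) := rfl
    rw [h3, ← hz, th_map, h2 M φ h, map_zero]
  choose Q₀ h1 h2 using key
  have : Fintype ι := Fintype.ofFinite ι
  let Q₁ : Submodule A Q := ⨆ i, ⨆ k, Q₀ i k
  have hQ₁ : Q₁.FG := Submodule.fg_iSup _ fun i => Submodule.fg_iSup _ fun k => h1 i k
  have h3 : x ≫ (TA A G).map (ModuleCat.ofHom Q₁.mkQ) = 0 := by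
    refine eq_zero_of_gen hE.1 _ U hU hc s hs fun i k => h2 i k _ _ fun q hq => ?_
    exact (Submodule.Quotient.mk_eq_zero _).2 ((le_iSup_of_le i (le_iSup (Q₀ i) k) : Q₀ i k ≤ Q₁) hq)
  have h4 : (ModuleCat.ofHom Q₁.mkQ : Q ⟶ ModuleCat.of A (Q ⧸ Q₁)) = 0 := by
    apply (hx _).1
    change x ≫ (TA A G).map (ModuleCat.ofHom Q₁.mkQ) = x ≫ (TA A G).map 0
    rw [h3, Functor.map_zero, comp_zero]
  have h5 : Q₁ = ⊤ := by
    rw [eq_top_iff]
    intro q _
    have := congr(($h4).hom q)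
    exact (Submodule.Quotient.mk_eq_zero _).1 this
  exact ⟨h5 ▸ hQ₁⟩

end Groth.Agent.ModSt.K599.ExtD
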