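import Groth.Agent.ModSt.K599.GlueLoc
import Groth.Agent.PicF.K245.RepAff

/-!
# Homomorphisms of modules with a local property, as a Zariski sheaf; gluing of universal elements
-/

set_option autoImplicit false
universe u
open CategoryTheory CategoryTheory.Limits AlgebraicGeometry Opposite TopologicalSpace

namespace K599.Glue

open K599.LMod K599.Rep K599.IsoRep K927.ModSt K927.En
open Groth.Agent.Picfga.OverRep

variable {X U : Scheme.{u}} {f : X ⟶ U} {E G : X.Modules}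
  {K : ∀ ⦃y : LObj.{u}⦄, (y ⟶ (⟨X, E⟩ : LObj.{u})) → Prop}

section Beta

variable (f G)

theorem existsUnique_bT {T T' : Scheme.{u}} {u : T ⟶ U} {u' : T' ⟶ U} (t : T' ⟶ T) (h : t ≫ u = u') :
    ∃! θ : YT f G u' ⟶ YT f G u, θ ≫ γT f G u = γT f G u' ∧ θ.top ≫ qT f G u = qT f G u' ≫ t :=
  existsUnique_theta (sqT f G u) (cT f G u) (γT f G u') (qT f G u' ≫ t) (by
    rw [Category.assoc, h]; exact (sqT f G u').w)

/-- The comparison of the base changes. -/
noncomputable def bT {T T' : Scheme.{u}} {u : T ⟶ U} {u' : T' ⟶ U} (t : T' ⟶ T) (h : t ≫ u = u') :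
    YT f G u' ⟶ YT f G u := (existsUnique_bT f G t h).choose

theorem bT_γ {T T' : Scheme.{u}} {u : T ⟶ U} {u' : T' ⟶ U} (t : T' ⟶ T) (h : t ≫ u = u') :
    bT f G t h ≫ γT f G u = γT f G u' := (existsUnique_bT f G t h).choose_spec.1.1

theorem bT_q {T T' : Scheme.{u}} {u : T ⟶ U} {u' : T' ⟶ U} (t : T' ⟶ T) (h : t ≫ u = u') :
    (bT f G t h).top ≫ qT f G u = qT f G u' ≫ t := (existsUnique_bT f G t h).choose_spec.1.2

theorem bT_top {T T' : Scheme.{u}} {u : T ⟶ U} {u' : T' ⟶ U} (t : T' ⟶ T) (h : t ≫ u = u') :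
    (bT f G t h).top ≫ (γT f G u).top = (γT f G u').top := congrArg LObj.Hom.top (bT_γ f G t h)

theorem cart_bT {T T' : Scheme.{u}} {u : T ⟶ U} {u' : T' ⟶ U} (t : T' ⟶ T) (h : t ≫ u = u') :
    Cart (bT f G t h) := (cT f G u).of_comp (by rw [bT_γ]; exact cT f G u')

theorem bT_unique {T T' : Scheme.{u}} {u : T ⟶ U} {u' : T' ⟶ U} (t : T' ⟶ T) (h : t ≫ u = u')
    (θ : YT f G u' ⟶ YT f G u) (h1 : θ ≫ γT f G u = γT f G u') (h2 : θ.top ≫ qT f G u = qT f G u' ≫ t) :
    θ = bT f G t h := (existsUnique_bT f G t h).unique ⟨h1, h2⟩ ⟨bT_γ f G t h, bT_q f G t h⟩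

theorem bT_id {T : Scheme.{u}} (u : T ⟶ U) : bT f G (𝟙 T) (Category.id_comp u) = 𝟙 _ :=
  (bT_unique f G _ _ (𝟙 _) (Category.id_comp _) (by
    rw [Category.comp_id]; exact Category.id_comp _)).symm

theorem bT_comp {T T' T'' : Scheme.{u}} {u : T ⟶ U} {u' : T' ⟶ U} {u'' : T'' ⟶ U} (t : T' ⟶ T) (h : t ≫ u = u')
    (t' : T'' ⟶ T') (h' : t' ≫ u' = u'') :
    bT f G (t' ≫ t) (by rw [Category.assoc, h, h']) = bT f G t' h' ≫ bT f G t h := by
  refine (bT_unique f G _ _ _ ?_ ?_).symm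
  · rw [Category.assoc, bT_γ, bT_γ]
  · change ((bT f G t' h').top ≫ (bT f G t h).top) ≫ qT f G u = _
    rw [Category.assoc, bT_q, ← Category.assoc, bT_q, Category.assoc]

end Beta

section Functor

variable (f G) (hK : LocP E K)

/-- The homomorphisms with the property over `T`. -/
abbrev Sec {T : Scheme.{u}} (u : T ⟶ U) : Type u :=
  {χ : YT f G u ⟶ (⟨X, E⟩ : LObj.{u}) // χ.top = (γT f G u).top ∧ K χ}

include hK in
theorem res_mem {T T' : Scheme.{u}} {u : T ⟶ U} {u' : T' ⟶ U} (t : T' ⟶ T) (h : t ≫ u = u')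
    {χ : YT f G u ⟶ (⟨X, E⟩ : LObj.{u})} (hχ : χ.top = (γT f G u).top ∧ K χ) :
    (bT f G t h ≫ χ).top = (γT f G u').top ∧ K (bT f G t h ≫ χ) := by
  refine ⟨?_, hK.stab _ _ (cart_bT f G t h) hχ.2⟩
  change (bT f G t h).top ≫ χ.top = _
  rw [hχ.1]; exact bT_top f G t h

/-- The functor of homomorphisms with the property. -/
noncomputable def FK : (Over U)ᵒᵖ ⥤ Type u where
  obj T := Sec (K := K) f G T.unop.hom
  map {T T'} a := ↾fun χ => ⟨bT f G a.unop.left (Over.w a.unop) ≫ χ.1, res_mem f G hK _ _ χ.2⟩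
  map_id T := by
    ext χ
    change bT f G (𝟙 T.unop.left) _ ≫ χ.1 = χ.1
    rw [bT_id, Category.id_comp]
  map_comp {T T' T''} a b := by
    ext χ
    change bT f G (b.unop.left ≫ a.unop.left) _ ≫ χ.1 = bT f G b.unop.left _ ≫ bT f G a.unop.left _ ≫ χ.1
    rw [bT_comp f G a.unop.left (Over.w a.unop) b.unop.left (Over.w b.unop), Category.assoc]

theorem FK_map {T T' : Over U} (a : T' ⟶ T) (χ : (FK f G hK).obj (op T)) :
    ((FK f G hK).map a.op χ).1 = bT f G a.left (Over.w a) ≫ χ.1 := rfl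

variable {f G}

theorem cover_mem (T : Over U) (𝒰 : Cov T) : Presieve.ofArrows (fun i => (YT f G (𝒰.V i).hom).Y)
    (fun i => (bT f G (𝒰.j i).left (Over.w (𝒰.j i))).top) ∈ Scheme.fpqcPrecoverage (YT f G T.hom).Y := by
  apply Scheme.zariskiPrecoverage_le_fpqcPrecoverage
  rw [Scheme.zariskiPrecoverage, Scheme.ofArrows_mem_precoverage_iff]
  have hsq : ∀ i, IsPullback (bT f G (𝒰.j i).left (Over.w (𝒰.j i))).top (qT f G (𝒰.V i).hom) (qT f G T.hom)
      (𝒰.j i).left := fun i => by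
    refine IsPullback.of_right ?_ (bT_q f G _ _) (sqT f G T.hom)
    rw [bT_top, Over.w (𝒰.j i)]
    exact sqT f G (𝒰.V i).hom
  constructor
  · intro x
    obtain ⟨i, v, hv⟩ := 𝒰.covers (qT f G T.hom x)
    obtain ⟨p, hp, -⟩ := Scheme.Pullback.exists_preimage_pullback (f := qT f G T.hom) (g := (𝒰.j i).left) x v hv.symm
    refine ⟨i, (hsq i).isoPullback.inv p, ?_⟩
    rw [← hp, ← (hsq i).isoPullback_inv_fst]
    rfl
  · intro i
    exact MorphismProperty.of_isPullback (hsq i).flip (𝒰.isOpen i)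

/-- The functor is a Zariski sheaf. -/
theorem isZarSheaf_FK (hG : Coh.IsQCoh G) : IsZarSheaf (FK f G hK) := by
  intro T 𝒰 x hx
  have hA : Coh.IsQCoh (YT f G T.hom).M := Groth.Agent.FormalA.PullbackQC.isQCoh_pullback _ _ hG
  let β := fun i => bT f G (𝒰.j i).left (Over.w (𝒰.j i))
  have hβ : ∀ i, Cart (β i) := fun i => cart_bT f G _ _
  have hcov := cover_mem (f := f) (G := G) T 𝒰
  obtain ⟨ψ, hψ, hψ'⟩ := exists_glueL (B := (⟨X, E⟩ : LObj.{u})) hA (fun i => YT f G (𝒰.V i).hom) β hβ hcov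
    (γT f G T.hom).top (fun i => (x i).1) (fun i => by rw [(x i).2.1]; exact (bT_top f G _ _).symm) (by
      intro W i k a b ha hb hab
      -- the fibre product of the members
      let P : Over U := Over.mk (pullback.fst (𝒰.j i).left (𝒰.j k).left ≫ (𝒰.V i).hom)
      let pa : P ⟶ 𝒰.V i := Over.homMk (pullback.fst _ _) rfl
      let pb' : P ⟶ 𝒰.V k := Over.homMk (pullback.snd _ _) (by
        change pullback.snd _ _ ≫ (𝒰.V k).hom = pullback.fst _ _ ≫ (𝒰.V i).hom
        rw [← Over.w (𝒰.j i), ← Over.w (𝒰.j k), ← Category.assoc, ← pullback.condition, Category.assoc])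
      have hpp : pa ≫ 𝒰.j i = pb' ≫ 𝒰.j k := by
        ext
        exact pullback.condition
      have h1 : (a.top ≫ qT f G (𝒰.V i).hom) ≫ (𝒰.j i).left = (b.top ≫ qT f G (𝒰.V k).hom) ≫ (𝒰.j k).left := by
        rw [Category.assoc, Category.assoc, ← bT_q f G (𝒰.j i).left (Over.w _),
          ← bT_q f G (𝒰.j k).left (Over.w _), ← Category.assoc, ← Category.assoc]
        exact congrArg (· ≫ qT f G T.hom) (congrArg LObj.Hom.top hab)
      let r : W.Y ⟶ P.left := pullback.lift _ _ h1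
      have r1 : r ≫ pa.left = a.top ≫ qT f G (𝒰.V i).hom := pullback.lift_fst _ _ _
      have r2 : r ≫ pb'.left = b.top ≫ qT f G (𝒰.V k).hom := pullback.lift_snd _ _ _
      have hδ : a ≫ γT f G (𝒰.V i).hom = b ≫ γT f G (𝒰.V k).hom := by
        rw [← bT_γ f G (𝒰.j i).left (Over.w _), ← bT_γ f G (𝒰.j k).left (Over.w _), ← Category.assoc,
          ← Category.assoc]
        exact congrArg (· ≫ γT f G T.hom) hab
      have h2 : (a ≫ γT f G (𝒰.V i).hom).top ≫ f = r ≫ P.hom := by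
        change (a.top ≫ (γT f G (𝒰.V i).hom).top) ≫ f = r ≫ pa.left ≫ (𝒰.V i).hom
        rw [Category.assoc, (sqT f G (𝒰.V i).hom).w, ← Category.assoc, ← r1, Category.assoc]
      obtain ⟨θ, ⟨θ1, θ2⟩, -⟩ := existsUnique_theta (sqT f G P.hom) (cT f G P.hom) _ r h2
      have ea : a = θ ≫ bT f G pa.left (Over.w pa) := by
        refine (existsUnique_theta (sqT f G (𝒰.V i).hom) (cT f G (𝒰.V i).hom) (a ≫ γT f G (𝒰.V i).hom)
          (r ≫ pa.left) ?_).unique ⟨rfl, r1.symm⟩ ⟨?_, ?_⟩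
        · rw [h2, Category.assoc, Over.w pa]
        · rw [Category.assoc, bT_γ, θ1]
        · change (θ.top ≫ (bT f G pa.left (Over.w pa)).top) ≫ _ = _
          rw [Category.assoc, bT_q, ← Category.assoc, θ2]
      have eb : b = θ ≫ bT f G pb'.left (Over.w pb') := by
        refine (existsUnique_theta (sqT f G (𝒰.V k).hom) (cT f G (𝒰.V k).hom) (b ≫ γT f G (𝒰.V k).hom)
          (r ≫ pb'.left) ?_).unique ⟨rfl, r2.symm⟩ ⟨?_, ?_⟩
        · rw [← hδ, h2, Category.assoc, Over.w pb']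
        · rw [Category.assoc, bT_γ, θ1, hδ]
        · change (θ.top ≫ (bT f G pb'.left (Over.w pb')).top) ≫ _ = _
          rw [Category.assoc, bT_q, ← Category.assoc, θ2]
      have h3 := congrArg Subtype.val (hx i k P pa pb' hpp)
      rw [FK_map, FK_map] at h3
      rw [ea, eb, Category.assoc, Category.assoc, h3])
  have hKψ : K ψ := hK.loc hA (fun i => YT f G (𝒰.V i).hom) β hβ hcov ψ fun i => by
    rw [hψ']; exact (x i).2.2
  refine ⟨⟨ψ, hψ, hKψ⟩, fun i => Subtype.ext (hψ' i), ?_⟩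
  intro y hy
  apply Subtype.ext
  refine sepL hA (fun i => YT f G (𝒰.V i).hom) β hβ hcov (y.2.1.trans hψ.symm) fun i => ?_
  rw [hψ']
  exact congrArg Subtype.val (hy i)

end Functor

end K599.Glue
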