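import Groth.Agent.ModSt.K599.IsoRep
import Groth.Agent.ModSt.K927.EnGlue
import Groth.Agent.FormalA.PullbackQC

/-!
# Local properties of morphisms to `(X, E)`; being cartesian is local
-/

set_option autoImplicit false
universe u
open CategoryTheory CategoryTheory.Limits AlgebraicGeometry Opposite TopologicalSpace

namespace K599.Glue

open K599.LMod K599.Rep K599.IsoRep K927.ModSt K927.En

variable {X U : Scheme.{u}}

/-- A property of morphisms to `(X, E)` which is stable under base change and local. -/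
structure LocP (E : X.Modules) (K : ∀ ⦃y : LObj.{u}⦄, (y ⟶ (⟨X, E⟩ : LObj.{u})) → Prop) : Prop where
  stab : ∀ ⦃y y' : LObj.{u}⦄ (β : y' ⟶ y) (χ : y ⟶ ⟨X, E⟩), Cart β → K χ → K (β ≫ χ)
  loc : ∀ ⦃ι : Type u⦄ ⦃y : LObj.{u}⦄ (_ : Coh.IsQCoh y.M) (Z : ι → LObj.{u}) (β : ∀ i, Z i ⟶ y),
    (∀ i, Cart (β i)) → Presieve.ofArrows (fun i => (Z i).Y) (fun i => (β i).top) ∈ Scheme.fpqcPrecoverage y.Y →
    ∀ χ : y ⟶ ⟨X, E⟩, (∀ i, K (β i ≫ χ)) → K χ

theorem locP_true (E : X.Modules) : LocP E (fun _ _ => True) :=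
  ⟨fun _ _ _ _ _ _ => trivial, fun _ _ _ _ _ _ _ _ _ => trivial⟩

/-- Being cartesian is local. -/
theorem locP_cart {E : X.Modules} (hE : Coh.IsQCoh E) : LocP E (fun _ χ => Cart χ) := by
  refine ⟨fun y y' β χ hβ hχ => hβ.comp hχ, ?_⟩
  intro ι y hy Z β hβ hcov χ hχ
  let χ₀ := pbHom (⟨X, E⟩ : LObj.{u}) χ.top
  have c₀ : Cart χ₀ := cart_pbHom _ _
  have hA : Coh.IsQCoh (pb (⟨X, E⟩ : LObj.{u}) χ.top).M := Groth.Agent.FormalA.PullbackQC.isQCoh_pullback _ _ hE
  have ht : 𝟙 y.Y ≫ χ₀.top = χ.top := Category.id_comp _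
  let a := c₀.lift χ (𝟙 y.Y) ht
  have at_ : a.top = 𝟙 _ := c₀.lift_top _ _ _
  have a1 : a ≫ χ₀ = χ := c₀.lift_comp _ _ _
  have hβa : ∀ i, Cart (β i ≫ a) := fun i => c₀.of_comp (by rw [Category.assoc, a1]; exact hχ i)
  have htop : ∀ i, (β i ≫ a).top = (β i).top := fun i => by
    change (β i).top ≫ a.top = _
    rw [at_]; exact Category.comp_id _
  have hcov' : Presieve.ofArrows (fun i => (Z i).Y) (fun i => (β i ≫ a).top) ∈
      Scheme.fpqcPrecoverage (pb (⟨X, E⟩ : LObj.{u}) χ.top).Y := by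
    have : (fun i => (β i ≫ a).top) = fun i => (β i).top := funext htop
    rw [this]; exact hcov
  obtain ⟨b, hb, hb'⟩ := exists_glueL (B := y) hA Z (fun i => β i ≫ a) hβa hcov' (𝟙 _) β
    (fun i => by rw [htop]; exact (Category.comp_id _).symm) (by
      intro W i j p q hp hq h
      have h0 : p.top ≫ (β i).top = q.top ≫ (β j).top := by
        have := congrArg LObj.Hom.top h
        change p.top ≫ (β i).top ≫ a.top = q.top ≫ (β j).top ≫ a.top at this
        rw [at_] at this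
        rw [Category.comp_id, Category.comp_id] at this
        exact this
      let θ := (hp.comp (hβ i)).lift (q ≫ β j) (𝟙 _) ((Category.id_comp _).trans h0)
      have θt : θ.top = 𝟙 _ := (hp.comp (hβ i)).lift_top _ _ _
      have θ1 : θ ≫ p ≫ β i = q ≫ β j := (hp.comp (hβ i)).lift_comp _ _ _
      have θ2 : θ = 𝟙 W := by
        refine (hp.comp (hβa i)).hom_ext' θt ?_
        have e : θ ≫ p ≫ β i ≫ a = (θ ≫ p ≫ β i) ≫ a := by simp only [Category.assoc]
        rw [Category.id_comp, e, θ1, Category.assoc, ← h]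
      rw [← θ1, θ2, Category.id_comp])
  have e1 : a ≫ b = 𝟙 y := by
    refine sepL hy Z β hβ hcov ?_ fun i => ?_
    · change a.top ≫ b.top = 𝟙 _
      rw [at_, hb]; exact Category.comp_id _
    · rw [← Category.assoc, hb', Category.comp_id]
  have e2 : b ≫ a = 𝟙 _ := by
    refine sepL hA Z (fun i => β i ≫ a) hβa hcov' ?_ fun i => ?_
    · change b.top ≫ a.top = 𝟙 _
      rw [at_, hb]; exact Category.comp_id _
    · rw [← Category.assoc, hb', Category.comp_id]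
  have ca : Cart a := cart_of_inv a b at_ hb e1 e2
  change Cart χ
  rw [← a1]
  exact ca.comp c₀

section Obj

variable (f : X ⟶ U) (G : X.Modules)

/-- The base change to `T`. -/
noncomputable abbrev YT {T : Scheme.{u}} (u : T ⟶ U) : LObj.{u} := pb (⟨X, G⟩ : LObj.{u}) (pullback.fst f u)

noncomputable abbrev γT {T : Scheme.{u}} (u : T ⟶ U) : YT f G u ⟶ (⟨X, G⟩ : LObj.{u}) :=
  pbHom (⟨X, G⟩ : LObj.{u}) (pullback.fst f u)

noncomputable abbrev qT {T : Scheme.{u}} (u : T ⟶ U) : (YT f G u).Y ⟶ T := pullback.snd f u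

theorem sqT {T : Scheme.{u}} (u : T ⟶ U) : IsPullback (γT f G u).top (qT f G u) f u := IsPullback.of_hasPullback f u

theorem cT {T : Scheme.{u}} (u : T ⟶ U) : Cart (γT f G u) := cart_pbHom _ _

variable {f G}

/-- The universal property of a base change. -/
theorem existsUnique_theta {w y : LObj.{u}} {T : Scheme.{u}} {u : T ⟶ U} {γ : y ⟶ ⟨X, G⟩} {q : y.Y ⟶ T}
    (sq : IsPullback γ.top q f u) (cart : Cart γ) (δ : w ⟶ (⟨X, G⟩ : LObj.{u})) (r : w.Y ⟶ T)
    (h : δ.top ≫ f = r ≫ u) : ∃! θ : w ⟶ y, θ ≫ γ = δ ∧ θ.top ≫ q = r := by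
  obtain ⟨β, ⟨h1, h2⟩, h3⟩ := cart.existsUnique_lift δ (sq.lift δ.top r h) (sq.lift_fst _ _ _)
  refine ⟨β, ⟨h2, by rw [h1]; exact sq.lift_snd _ _ _⟩, ?_⟩
  rintro β' ⟨h4, h5⟩
  refine h3 β' ⟨?_, h4⟩
  apply sq.hom_ext
  · rw [sq.lift_fst, ← h4]; rfl
  · rw [h5, sq.lift_snd]

end Obj

end K599.Glue
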