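import Groth.Agent.ModSt.K599.RepSupp
import Groth.Agent.ModSt.K927.Fib
import Groth.Agent.FormalA.Support

/-!
# Finitely presented modules, flat over the base, with proper support: base change
-/

set_option autoImplicit false
universe u
open CategoryTheory CategoryTheory.Limits AlgebraicGeometry Opposite TopologicalSpace

open Groth.Agent Groth.Agent.ModSt.K599

namespace K599.Good

open K599.LMod K599.Rep K599.IsoRep K599.RepBC K599.RepMain K599.RepSupp K927.ModSt

theorem Supp.baseChange {X U X' U' : Scheme.{u}} {f : X ⟶ U} {f' : X' ⟶ U'} {g : X' ⟶ X} {v : U' ⟶ U}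
    (sq : IsPullback g f' f v) {E : X.Modules} (hE : CohB1.IsFP E) (h : Supp f E) {E' : X'.Modules}
    (e : Nonempty ((Scheme.Modules.pullback g).obj E ≅ E')) : Supp f' E' := by
  obtain ⟨e⟩ := e
  obtain ⟨Z, i, hi, hp, hs⟩ := h
  have sq1 : IsPullback (pullback.snd g i) (pullback.fst g i) i g := (IsPullback.of_hasPullback g i).flip
  refine ⟨pullback g i, pullback.fst g i, inferInstance, ?_, ?_⟩
  · exact MorphismProperty.of_isPullback (sq1.paste_vert sq) hp
  · intro x hx
    have h1 : x ∈ CohB1.support ((Scheme.Modules.pullback g).obj E) := by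
      rw [FormalA.Support.support_eq_of_iso e]
      exact hx
    have h2 := FormalA.Support.support_pullback_subset g E (Models2.FPCoh.isFT_of_isFP hE) h1
    rw [Scheme.Pullback.range_fst]
    exact hs h2

/-- Finitely presented, flat over the base, with proper support. -/
structure Gd {X U : Scheme.{u}} (f : X ⟶ U) (E : X.Modules) : Prop where
  fp : CohB1.IsFP E
  flat : FlatMod.IsFlatOver f E
  supp : Supp f E

theorem Gd.baseChange {X U X' U' : Scheme.{u}} {f : X ⟶ U} {f' : X' ⟶ U'} {v : U' ⟶ U} {E : X.Modules}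
    {E' : X'.Modules} (φ : (⟨X', E'⟩ : LObj.{u}) ⟶ ⟨X, E⟩) (hφ : Cart φ) (sq : IsPullback φ.top f' f v)
    (h : Gd f E) : Gd f' E' := by
  obtain ⟨e⟩ := nonempty_iso_pullback hφ
  exact ⟨PerfC.FPSections.isFP_of_iso e (FormalA.PullbackQC.isFP_pullback φ.top E h.fp),
    Models2.FlatIso.isFlatOver_of_iso _ e (FormalB.BC.isFlatOver_pullback sq E h.flat),
    Supp.baseChange sq h.fp h.supp ⟨e⟩⟩

theorem Gd.of_proper {X U : Scheme.{u}} {f : X ⟶ U} [IsProper f] {E : X.Modules} (h : CohB1.IsFP E)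
    (h' : FlatMod.IsFlatOver f E) : Gd f E :=
  ⟨h, h', X, 𝟙 X, inferInstance, by rw [Category.id_comp]; infer_instance, fun x _ => ⟨x, rfl⟩⟩

theorem Gd.exists_homRep {X U : Scheme.{u}} [IsAffine U] {f : X ⟶ U} [LocallyOfFinitePresentation f]
    {E G : X.Modules} (hE : CohB1.IsFP E) (hG : Gd f G) :
    ∃ R : HomRep f E G, IsAffineHom R.z ∧ LocallyOfFinitePresentation R.z :=
  exists_homRep_supp f E G hE hG.fp hG.flat hG.supp

theorem Gd.exists_isoRep {X U : Scheme.{u}} [IsAffine U] {f : X ⟶ U} [LocallyOfFinitePresentation f]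
    {E₁ E₂ : X.Modules} (h₁ : Gd f E₁) (h₂ : Gd f E₂) :
    ∃ R : IsoR f E₁ E₂, IsAffineHom R.z ∧ LocallyOfFinitePresentation R.z :=
  exists_isoRep_supp f E₁ E₂ h₁.fp h₂.fp h₁.flat h₂.flat h₁.supp h₂.supp

end K599.Good
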