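import Groth.Agent.PerfB.ApproxMain

/-!
# Noetherian model of a proper scheme of finite presentation with two finitely presented modules
-/

set_option autoImplicit false
universe u
open CategoryTheory CategoryTheory.Limits AlgebraicGeometry Opposite TopologicalSpace

open Groth.Agent Groth.Agent.PerfB

namespace K599.Model2

open ApproxStage ApproxRing ApproxTower ApproxMdl ApproxGood ApproxMain ApproxProp

variable {A : Type u} [CommRing A] {X : Scheme.{u}} {f : X ⟶ Spec (CommRingCat.of A)} {F : X.Modules}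

/-- A second finitely presented module descends to a larger finitely generated subring. -/
theorem exists_descend (m : Mdl f F) {E : X.Modules} (hE : CohB1.IsFP E) :
    ∃ (C : Idx A) (hC : m.B ≤ C) (E₁ : (m.Yup hC).Modules), CohB1.IsFP E₁ ∧
      Nonempty ((Scheme.Modules.pullback (m.gup hC)).obj E₁ ≅ E) := by
  classical
  have hE0 : Coh.IsQCoh E := Models2.FPCoh.isQCoh_of_isFP hE
  let B₀ : Idx A := m.B
  let X₀ := m.Y
  let f₀' : X₀ ⟶ Spec (CommRingCat.of B₀.1) := m.h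
  let g : X ⟶ X₀ := m.g
  have h1' : LocallyOfFinitePresentation f₀' := m.lfp
  have h2' : QuasiCompact f₀' := m.qc
  have h3' : QuasiSeparated f₀' := m.qs
  have h4' : IsPullback g f f₀' (sa B₀) := m.pb
  have hg : IsAffineHom g :=
    MorphismProperty.of_isPullback h4'.flip (inferInstanceAs (IsAffineHom (sa B₀)))
  have c1 : CompactSpace X₀ := QuasiCompact.compactSpace_of_compactSpace f₀'
  have c2 : QuasiSeparatedSpace X₀ := quasiSeparatedSpace_of_quasiSeparated f₀'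
  obtain ⟨G, γ, T, hG, hG', hT, hR⟩ := ApproxRel.exists_rel g E hE0 hE
  have R : ∀ V : T, ApproxStage.Rel γ (V.1 : X₀.Opens) := fun V => (hR V.1 V.2).some
  have hs : ∀ (V : T) (l : Fin (R V).m) (i : Fin (R V).n), ∃ s : Set A, s.Finite ∧
      (R V).k l i ∈ Subring.closure (Set.range (g.app (V.1 : X₀.Opens)) ∪
        scal f (g ⁻¹ᵁ (V.1 : X₀.Opens)) '' s) := fun V l i =>
    exists_finite_scal (algebraMap B₀.1 A) h4' V.1.2 _
  choose s hs1 hs2 using hs
  obtain ⟨C, hC, hsC⟩ := exists_idx_of_finite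
    (s := ⋃ (V : T), ⋃ (l : Fin (R V).m), ⋃ (i : Fin (R V).n), s V l i)
    (Set.finite_iUnion fun V => Set.finite_iUnion fun l => Set.finite_iUnion fun i => hs1 V l i) B₀
  let X₁ : Scheme.{u} := pullback f₀' (si hC)
  let p : X₁ ⟶ X₀ := pullback.fst _ _
  let f₁ : X₁ ⟶ Spec (CommRingCat.of C.1) := pullback.snd _ _
  let q : X ⟶ X₁ := pullback.lift g (f ≫ sa C) (by rw [Category.assoc, sa_si]; exact h4'.w)
  have hqp : q ≫ p = g := pullback.lift_fst _ _ _
  have hqf : q ≫ f₁ = f ≫ sa C := pullback.lift_snd _ _ _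
  have hpb : IsPullback q f f₁ (sa C) := by
    refine IsPullback.of_right ?_ hqf (IsPullback.of_hasPullback f₀' (si hC))
    rw [sa_si]
    change IsPullback (q ≫ p) f f₀' _
    rw [hqp]
    exact h4'
  have a1 : IsAffineHom q :=
    MorphismProperty.of_isPullback hpb.flip (inferInstanceAs (IsAffineHom (sa C)))
  have a2 : IsAffineHom p := MorphismProperty.of_isPullback
    (IsPullback.of_hasPullback f₀' (si hC)).flip (inferInstanceAs (IsAffineHom (si hC)))
  obtain ⟨F', hF1, hF2, ⟨e⟩⟩ := stage q p hqp γ hG (Models2.FPCoh.isFT_of_isFP hG') hE0 (fun x => by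
    obtain ⟨V, hV, hx⟩ := hT x
    refine ⟨V, hx, V.2, R ⟨V, hV⟩, fun l i => ?_⟩
    refine mem_range_appLE hqp C.1 f₁ hqf V _ ?_ _ (hs2 ⟨V, hV⟩ l i)
    refine subset_trans ?_ hsC
    exact (Set.subset_iUnion (fun i => s ⟨V, hV⟩ l i) i).trans
      ((Set.subset_iUnion (fun l => ⋃ i, s ⟨V, hV⟩ l i) l).trans
        (Set.subset_iUnion (fun V => ⋃ l, ⋃ i, s V l i) ⟨V, hV⟩)))
  have l1 : LocallyOfFinitePresentation f₁ :=
    inferInstanceAs (LocallyOfFinitePresentation (pullback.snd f₀' (si hC)))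
  have l2 : IsLocallyNoetherian X₁ := LocallyOfFiniteType.isLocallyNoetherian f₁
  exact ⟨C, hC, F', (Groth.Agent.S0018.result X₁ F').mp ⟨hF1, hF2⟩, ⟨e⟩⟩

/-- **Noetherian model with two modules.** -/
theorem exists_model (A : Type u) [CommRing A] {X : Scheme.{u}} (f : X ⟶ Spec (CommRingCat.of A)) [IsProper f]
    [LocallyOfFinitePresentation f] (E G : X.Modules) (hE : CohB1.IsFP E) (hG : CohB1.IsFP G)
    (hGf : FlatMod.IsFlatOver f G) :
    ∃ (A₀ : Subalgebra ℤ A) (X₀ : Scheme.{u}) (f₀ : X₀ ⟶ Spec (CommRingCat.of A₀)) (g : X ⟶ X₀)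
      (E₀ G₀ : X₀.Modules), A₀.FG ∧ IsProper f₀ ∧ LocallyOfFinitePresentation f₀ ∧
      IsPullback g f f₀ (Spec.map (CommRingCat.ofHom (algebraMap A₀ A))) ∧ CohB1.IsFP E₀ ∧ CohB1.IsFP G₀ ∧
      FlatMod.IsFlatOver f₀ G₀ ∧ Nonempty ((Scheme.Modules.pullback g).obj E₀ ≅ E) ∧
      Nonempty ((Scheme.Modules.pullback g).obj G₀ ≅ G) := by
  obtain ⟨m, h1, h2⟩ := (good_flat.good'.and good_isProper.good').exists (f := f) (F := G) hG
  obtain ⟨C, hC, E₁, hE₁, ⟨e⟩⟩ := exists_descend m hE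
  let m' := m.up C hC
  have h1' : FlatMod.IsFlatOver f G → FlatMod.IsFlatOver m'.h m'.G := good_flat.stab m C hC h1
  have h2' : IsProper f → IsProper m'.h := good_isProper.stab m C hC h2
  exact ⟨m'.B.1, m'.Y, m'.h, m'.g, E₁, m'.G, m'.B.2, h2' ‹_›, m'.lfp, m'.pb, hE₁, m'.fp, h1' hGf, ⟨e⟩, ⟨m'.e⟩⟩

end K599.Model2
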