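import Groth.Agent.ModSt.K599.Prod
import Groth.Agent.ModSt.K927.Fib
import Groth.Agent.AlgSp.K607.ArtinDefs

/-!
# Products in full substacks of the stack of families
-/

set_option autoImplicit false
universe u
open CategoryTheory CategoryTheory.Limits AlgebraicGeometry Opposite TopologicalSpace ModSt

namespace K599.PR

open K599.LMod K599.Rep K599.IsoRep K599.Prod K927.ModSt

variable {X S : Scheme.{u}} {f : X ⟶ S}

theorem lift_pr {A B : Obj f} (R : IsoG (fY A B) (E₁ A B) (E₂ A B)) (h) :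
    pullback.lift (pr₁ R).base.left (pr₂ R).base.left h = R.z := by
  apply pullback.hom_ext
  · rw [pullback.lift_fst]; rfl
  · rw [pullback.lift_snd]; rfl

/-- **Products in a full substack.** -/
theorem exists_prod (Q : Obj f → Prop) (hQ : ∀ {A B : Obj f}, (A ⟶ B) → Q B → Q A)
    (P : MorphismProperty Scheme.{u})
    (H : ∀ A B : Obj f, Q A → Q B → ∃ R : IsoG (fY A B) (E₁ A B) (E₂ A B), P R.z)
    (x y : (AlgSt.fullSub (Fam f) Q).obj) :
    ∃ (w : (AlgSt.fullSub (Fam f) Q).obj) (p : w ⟶ x) (q : w ⟶ y),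
    (∀ (z : (AlgSt.fullSub (Fam f) Q).obj) (a : z ⟶ x) (b : z ⟶ y), ∃! c : z ⟶ w, c ≫ p = a ∧ c ≫ q = b) ∧
      P (pullback.lift ((AlgSt.fullSub (Fam f) Q).p.map p).left ((AlgSt.fullSub (Fam f) Q).p.map q).left
        ((Over.w ((AlgSt.fullSub (Fam f) Q).p.map p)).trans (Over.w ((AlgSt.fullSub (Fam f) Q).p.map q)).symm) :
          ((AlgSt.fullSub (Fam f) Q).p.obj w).left ⟶
            pullback ((AlgSt.fullSub (Fam f) Q).p.obj x).hom ((AlgSt.fullSub (Fam f) Q).p.obj y).hom) := by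
  obtain ⟨R, hR⟩ := H x.obj y.obj x.property y.property
  let w : (AlgSt.fullSub (Fam f) Q).obj := ⟨W R, hQ (pr₁ R) x.property⟩
  let p : w ⟶ x := ⟨pr₁ R⟩
  let q : w ⟶ y := ⟨pr₂ R⟩
  refine ⟨w, p, q, ?_, ?_⟩
  · intro z a b
    obtain ⟨c, ⟨h1, h2⟩, h3⟩ := existsUnique R z.obj a.hom b.hom
    refine ⟨⟨c⟩, ⟨?_, ?_⟩, ?_⟩
    · exact InducedCategory.hom_ext h1
    · exact InducedCategory.hom_ext h2
    · rintro ⟨c'⟩ ⟨h4, h5⟩
      have := h3 c' ⟨congrArg (fun φ : z ⟶ x => φ.hom) h4, congrArg (fun φ : z ⟶ y => φ.hom) h5⟩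
      exact InducedCategory.hom_ext this
  · have h1 := lift_pr R ((Over.w ((AlgSt.fullSub (Fam f) Q).p.map p)).trans
      (Over.w ((AlgSt.fullSub (Fam f) Q).p.map q)).symm)
    exact h1 ▸ hR

end K599.PR
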