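import Mathlib.CategoryTheory.Triangulated.Subcategory
import Mathlib.CategoryTheory.Linear.Basic
import Mathlib.RingTheory.Flat.Basic
import Mathlib.Algebra.FiveLemma

/-!
# The comparison `Hom(K, L) ⊗_A N → Hom(K, L')` in an `A`-linear triangulated category

For a linear map `ε : N → Hom(L, L')` put `theta : Hom(K, L) ⊗_A N → Hom(K, L')`, `f ⊗ x ↦ f ≫ ε x`.  If `N` is
flat over `A` then the objects `K` all of whose shifts have a bijective `theta` form a triangulated subcategory.
-/

set_option autoImplicit false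

universe v u

open CategoryTheory CategoryTheory.Limits CategoryTheory.Pretriangulated TensorProduct ZeroObject

namespace Groth.Agent.ModSt.K599.Theta

section Basic

variable {A : Type*} [CommRing A] {C : Type*} [Category* C] [Preadditive C] [Linear A C]
  {L L' : C} {N : Type*} [AddCommGroup N] [Module A N] (ε : N →ₗ[A] (L ⟶ L'))

/-- The comparison `f ⊗ x ↦ f ≫ ε x`. -/
noncomputable def theta (K : C) : (K ⟶ L) ⊗[A] N →ₗ[A] (K ⟶ L') :=
  TensorProduct.lift ((Linear.comp K L L').compl₂ ε)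

@[simp]
theorem theta_tmul (K : C) (f : K ⟶ L) (x : N) : theta ε K (f ⊗ₜ[A] x) = f ≫ ε x := rfl

theorem theta_comp {K K' : C} (g : K ⟶ K') (z : (K' ⟶ L) ⊗[A] N) :
    theta ε K ((Linear.leftComp A L g).rTensor N z) = g ≫ theta ε K' z := by
  induction z using TensorProduct.induction_on with
  | zero => simp
  | add x y hx hy => rw [map_add, map_add, hx, hy, map_add, Preadditive.comp_add]
  | tmul f x => simp

theorem theta_bijective_of_iso {K K' : C} (e : K ≅ K') (h : Function.Bijective (theta ε K')) :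
    Function.Bijective (theta ε K) := by
  have h1 : ∀ z, theta ε K z = e.hom ≫ theta ε K' ((Linear.leftComp A L e.inv).rTensor N z) := by
    intro z
    rw [theta_comp, e.hom_inv_id_assoc]
  have hb1 : Function.Bijective ((Linear.leftComp A L e.inv).rTensor N) := by
    refine Function.bijective_iff_has_inverse.2 ⟨(Linear.leftComp A L e.hom).rTensor N, ?_, ?_⟩
    · intro z
      rw [← LinearMap.comp_apply, ← LinearMap.rTensor_comp]
      have : (Linear.leftComp A L e.hom ∘ₗ Linear.leftComp A L e.inv) = LinearMap.id := by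
        ext f; simp
      rw [this, LinearMap.rTensor_id]; rfl
    · intro z
      rw [← LinearMap.comp_apply, ← LinearMap.rTensor_comp]
      have : (Linear.leftComp A L e.inv ∘ₗ Linear.leftComp A L e.hom) = LinearMap.id := by
        ext f; simp
      rw [this, LinearMap.rTensor_id]; rfl
  have hb2 : Function.Bijective (fun f : K' ⟶ L' => e.hom ≫ f) := by
    refine Function.bijective_iff_has_inverse.2 ⟨fun f => e.inv ≫ f, fun f => ?_, fun f => ?_⟩
    · simp
    · simp
  have : (theta ε K : _ → _) = (fun f : K' ⟶ L' => e.hom ≫ f) ∘ theta ε K' ∘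
      ((Linear.leftComp A L e.inv).rTensor N) := funext h1
  rw [this]
  exact hb2.comp (h.comp hb1)

/-- Exactness of `Hom(-, L)` is kept by tensoring with a flat module. -/
theorem exact_rTensor [Module.Flat A N] {K₁ K₂ K₃ : C} (g₁ : K₁ ⟶ K₂) (g₂ : K₂ ⟶ K₃) (w : g₁ ≫ g₂ = 0)
    (h : ∀ f : K₂ ⟶ L, g₁ ≫ f = 0 → ∃ f' : K₃ ⟶ L, f = g₂ ≫ f') :
    Function.Exact ((Linear.leftComp A L g₂).rTensor N) ((Linear.leftComp A L g₁).rTensor N) := by
  refine Module.Flat.rTensor_exact N ?_
  intro f
  constructor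
  · intro hf
    obtain ⟨f', rfl⟩ := h f hf
    exact ⟨f', rfl⟩
  · rintro ⟨f', rfl⟩
    simp [reassoc_of% w]

end Basic

section Triangle

variable {A : Type*} [CommRing A] {C : Type*} [Category* C] [Preadditive C] [Linear A C] [HasZeroObject C]
  [HasShift C ℤ] [∀ n : ℤ, (shiftFunctor C n).Additive] [Pretriangulated C]
  {L L' : C} {N : Type*} [AddCommGroup N] [Module A N] (ε : N →ₗ[A] (L ⟶ L'))

/-- The five lemma for `theta` in a distinguished triangle. -/
theorem theta_bijective_of_dist [Module.Flat A N] (T : Triangle C) (hT : T ∈ distTriang C)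
    (h0 : Function.Bijective (theta ε (T.obj₁⟦(1 : ℤ)⟧))) (h1 : Function.Bijective (theta ε T.obj₃))
    (h2 : Function.Bijective (theta ε T.obj₁)) (h3 : Function.Bijective (theta ε (T.obj₃⟦(-1 : ℤ)⟧))) :
    Function.Bijective (theta ε T.obj₂) := by
  obtain ⟨g₀, hg₀, hg₀'⟩ : ∃ g : T.obj₃⟦(-1 : ℤ)⟧ ⟶ T.obj₁, g ≫ T.mor₁ = 0 ∧
      ∀ f : T.obj₁ ⟶ L, g ≫ f = 0 → ∃ f' : T.obj₂ ⟶ L, f = T.mor₁ ≫ f' := by
    have hT' : T.invRotate ∈ distTriang C := inv_rot_of_distTriang _ hT
    exact ⟨T.invRotate.mor₁, comp_distTriang_mor_zero₁₂ T.invRotate hT',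
      fun f hf => Triangle.yoneda_exact₂ T.invRotate hT' f hf⟩
  have e1 := exact_rTensor (L := L) (N := N) (A := A) T.mor₂ T.mor₃ (comp_distTriang_mor_zero₂₃ T hT)
    (fun f hf => Triangle.yoneda_exact₃ T hT f hf)
  have e2 := exact_rTensor (L := L) (N := N) (A := A) T.mor₁ T.mor₂ (comp_distTriang_mor_zero₁₂ T hT)
    (fun f hf => Triangle.yoneda_exact₂ T hT f hf)
  have e3 := exact_rTensor (L := L) (N := N) (A := A) g₀ T.mor₁ hg₀ hg₀'
  constructor
  · -- injectivity
    rw [← LinearMap.ker_eq_bot, LinearMap.ker_eq_bot']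
    intro z hz
    have hz1 : (Linear.leftComp A L T.mor₁).rTensor N z = 0 := by
      apply h2.1
      rw [theta_comp, hz, comp_zero, map_zero]
    obtain ⟨y, rfl⟩ := (e2 z).1 hz1
    rw [theta_comp] at hz
    obtain ⟨f, hf⟩ := Triangle.yoneda_exact₃ T hT _ hz
    obtain ⟨x, rfl⟩ := h0.2 f
    have hy : y = (Linear.leftComp A L T.mor₃).rTensor N x := by
      apply h1.1
      rw [hf, theta_comp]
    rw [hy]
    exact (e1 _).2 ⟨x, rfl⟩
  · intro f
    obtain ⟨x, hx⟩ := h2.2 (T.mor₁ ≫ f)
    have hx1 : (Linear.leftComp A L g₀).rTensor N x = 0 := by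
      apply h3.1
      rw [theta_comp, hx, map_zero, reassoc_of% hg₀, zero_comp]
    obtain ⟨y, hy⟩ := (e3 x).1 hx1
    have h4 : T.mor₁ ≫ (f - theta ε T.obj₂ y) = 0 := by
      rw [Preadditive.comp_sub, ← hx, ← theta_comp, ← hy, sub_self]
    obtain ⟨g, hg⟩ := Triangle.yoneda_exact₂ T hT _ h4
    obtain ⟨z, rfl⟩ := h1.2 g
    refine ⟨y + (Linear.leftComp A L T.mor₂).rTensor N z, ?_⟩
    rw [map_add, theta_comp, ← hg]
    abel

/-- The objects all of whose shifts have a bijective `theta`. -/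
def good : ObjectProperty C := fun K => ∀ n : ℤ, Function.Bijective (theta ε (K⟦n⟧))

instance isClosedUnderIsomorphisms_good : (good (A := A) ε).IsClosedUnderIsomorphisms where
  of_iso e h n := theta_bijective_of_iso ε ((shiftFunctor C n).mapIso e.symm) (h n)

omit [HasZeroObject C] [∀ n : ℤ, (shiftFunctor C n).Additive] [Pretriangulated C] in
theorem good.bijective {K : C} (h : good ε K) : Function.Bijective (theta ε K) :=
  theta_bijective_of_iso ε ((shiftFunctorZero C ℤ).app K).symm (h 0)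

theorem isTriangulated_good [Module.Flat A N] : (good (A := A) ε).IsTriangulated where
  exists_zero := ⟨0, isZero_zero C, fun n => by
    have hz : IsZero ((0 : C)⟦n⟧) := (shiftFunctor C n).map_isZero (isZero_zero C)
    have h1 : Subsingleton ((0 : C)⟦n⟧ ⟶ L) := ⟨fun f g => hz.eq_of_src f g⟩
    have h2 : Subsingleton ((0 : C)⟦n⟧ ⟶ L') := ⟨fun f g => hz.eq_of_src f g⟩
    constructor
    · intro x y _
      exact Subsingleton.elim x y
    · intro f
      exact ⟨0, Subsingleton.elim _ _⟩⟩
  isStableUnderShiftBy n := ⟨fun K h m =>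
    theta_bijective_of_iso ε ((shiftFunctorAdd' C n m (n + m) rfl).app K).symm (h (n + m))⟩
  ext₂' T hT h1 h3 := by
    refine ObjectProperty.le_isoClosure _ _ fun n => ?_
    have hTn : (Triangle.shiftFunctor C n).obj T ∈ distTriang C := Triangle.shift_distinguished T hT n
    exact theta_bijective_of_dist ε ((Triangle.shiftFunctor C n).obj T) hTn
      (theta_bijective_of_iso ε ((shiftFunctorAdd' C n 1 (n + 1) rfl).app T.obj₁).symm (h1 _)) (h3 n) (h1 n)
      (theta_bijective_of_iso ε ((shiftFunctorAdd' C n (-1) (n + -1) rfl).app T.obj₃).symm (h3 _))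

end Triangle

end Groth.Agent.ModSt.K599.Theta
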