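import Groth.Agent.CalgA.MLBasic
import Groth.Agent.ModSt.K599.Theta
import Mathlib.RingTheory.Flat.Tensor
import Mathlib.Algebra.Homology.ShortComplex.ModuleCat
import Mathlib.CategoryTheory.Linear.LinearFunctor
import Mathlib.RingTheory.Flat.Basic

/-!
# Products and cohomological functors on modules

`Φ` is an `A`-linear functor from `A`-modules (`A` Noetherian) to an `A`-linear triangulated category which sends
short exact sequences to distinguished triangles, functorially.  If the functors `N ↦ Hom(K⟦-n⟧, Φ N)`, `n ≥ 0`,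
are computed on flat modules by `Hom(K⟦-n⟧, Φ A) ⊗ N`, if these values at `A` are finite, and if they vanish for
`n` large, then `N ↦ Hom(K, Φ N)` commutes with arbitrary products.
-/

set_option autoImplicit false

universe w v u

open CategoryTheory CategoryTheory.Limits CategoryTheory.Pretriangulated TensorProduct

namespace Groth.Agent.ModSt.K599.ProdFun

section Flat

variable {A : Type u} [CommRing A] [IsNoetherianRing A]

/-- A product of flat modules over a Noetherian ring is flat. -/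
theorem flat_pi {J : Type*} (F : J → Type*) [∀ j, AddCommGroup (F j)] [∀ j, Module A (F j)]
    [∀ j, Module.Flat A (F j)] : Module.Flat A (∀ j, F j) := by
  rw [Module.Flat.iff_rTensor_injective']
  intro I x y hxy
  have : Module.FinitePresentation A I := Module.finitePresentation_of_finite A I
  apply CalgA.MLBasic.piRightHom_injective_of_finitePresentation (R := A) (M := I) F
  funext j
  have hj : Function.Injective (I.subtype.rTensor (F j)) :=
    Module.Flat.rTensor_preserves_injective_linearMap _ Subtype.val_injective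
  apply hj
  rw [← CalgA.MLBasic.piRightHom_rTensor, ← CalgA.MLBasic.piRightHom_rTensor]
  exact congrFun (congrArg _ hxy) j

end Flat

section Sc

variable {A : Type u} [CommRing A]

/-- The short complex of two linear maps. -/
noncomputable abbrev sc {K F M : Type u} [AddCommGroup K] [Module A K] [AddCommGroup F] [Module A F]
    [AddCommGroup M] [Module A M] (i : K →ₗ[A] F) (p : F →ₗ[A] M) (h : Function.Exact i p) :
    ShortComplex (ModuleCat.{u} A) :=
  ShortComplex.mk (ModuleCat.ofHom i) (ModuleCat.ofHom p) (by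
    ext x
    exact (h _).2 ⟨x, rfl⟩)

theorem sc_shortExact {K F M : Type u} [AddCommGroup K] [Module A K] [AddCommGroup F] [Module A F]
    [AddCommGroup M] [Module A M] (i : K →ₗ[A] F) (p : F →ₗ[A] M) (h : Function.Exact i p)
    (hi : Function.Injective i) (hp : Function.Surjective p) : (sc i p h).ShortExact where
  exact := (ShortComplex.ShortExact.moduleCat_exact_iff_function_exact _).2 h
  mono_f := (ModuleCat.mono_iff_injective _).2 hi
  epi_g := (ModuleCat.epi_iff_surjective _).2 hp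

end Sc

section Main

variable {A : Type u} [CommRing A] {C : Type w} [Category.{v} C] [Preadditive C] [Linear A C]
  (Φ : ModuleCat.{u} A ⥤ C) [Φ.Additive] [Φ.Linear A]

/-- The linear map `N → Hom(Φ A, Φ N)`. -/
noncomputable def ev (N : Type u) [AddCommGroup N] [Module A N] :
    N →ₗ[A] (Φ.obj (ModuleCat.of A A) ⟶ Φ.obj (ModuleCat.of A N)) where
  toFun x := Φ.map (ModuleCat.ofHom (LinearMap.toSpanSingleton A N x))
  map_add' x y := by
    rw [← Φ.map_add]
    congr 1
    ext
    simp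
  map_smul' a x := by
    rw [RingHom.id_apply, ← Φ.map_smul]
    congr 1
    ext
    simp

theorem ev_map {N N' : Type u} [AddCommGroup N] [Module A N] [AddCommGroup N'] [Module A N']
    (g : N →ₗ[A] N') (x : N) : ev Φ N x ≫ Φ.map (ModuleCat.ofHom g) = ev Φ N' (g x) := by
  change Φ.map _ ≫ Φ.map _ = Φ.map _
  rw [← Φ.map_comp]
  congr 1
  ext
  simp

theorem theta_ev_map {N N' : Type u} [AddCommGroup N] [Module A N] [AddCommGroup N'] [Module A N']
    (g : N →ₗ[A] N') (K : C) (z : (K ⟶ Φ.obj (ModuleCat.of A A)) ⊗[A] N) :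
    Theta.theta (ev Φ N) K z ≫ Φ.map (ModuleCat.ofHom g) = Theta.theta (ev Φ N') K (g.lTensor _ z) := by
  induction z using TensorProduct.induction_on with
  | zero => simp
  | add x y hx hy => rw [map_add, map_add, Preadditive.add_comp, hx, hy, map_add]
  | tmul f x => simp [ev_map]

/-- The comparison `Hom(K, Φ (∏ M)) → ∏ Hom(K, Φ M_j)`. -/
def cmp (K : C) {J : Type u} (M : J → Type u) [∀ j, AddCommGroup (M j)] [∀ j, Module A (M j)]
    (y : K ⟶ Φ.obj (ModuleCat.of A (∀ j, M j))) (j : J) : K ⟶ Φ.obj (ModuleCat.of A (M j)) :=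
  y ≫ Φ.map (ModuleCat.ofHom (LinearMap.proj j))

/-- `Hom(K, Φ -)` commutes with products of flat modules. -/
def PrFlat (K : C) : Prop :=
  ∀ (J : Type u) (M : J → Type u) [∀ j, AddCommGroup (M j)] [∀ j, Module A (M j)]
    [∀ j, Module.Flat A (M j)], Function.Bijective (cmp Φ K M)

/-- `Hom(K, Φ -)` commutes with products. -/
def Pr (K : C) : Prop :=
  ∀ (J : Type u) (M : J → Type u) [∀ j, AddCommGroup (M j)] [∀ j, Module A (M j)],
    Function.Bijective (cmp Φ K M)

theorem prFlat_of_theta [IsNoetherianRing A] (K : C) [Module.Finite A (K ⟶ Φ.obj (ModuleCat.of A A))]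
    (h : ∀ (N : Type u) [AddCommGroup N] [Module A N] [Module.Flat A N],
      Function.Bijective (Theta.theta (ev Φ N) K)) : PrFlat Φ K := by
  intro J M _ _ _
  have : Module.FinitePresentation A (K ⟶ Φ.obj (ModuleCat.of A A)) :=
    Module.finitePresentation_of_finite A _
  have hflat : Module.Flat A (∀ j, M j) := flat_pi M
  have h1 := h (∀ j, M j)
  have h2 : Function.Bijective (TensorProduct.piRightHom A A (K ⟶ Φ.obj (ModuleCat.of A A)) M) :=
    ⟨CalgA.MLBasic.piRightHom_injective_of_finitePresentation M,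
      CalgA.MLBasic.piRightHom_surjective_of_finite M⟩
  have h3 : Function.Bijective (fun (z : ∀ j, (K ⟶ Φ.obj (ModuleCat.of A A)) ⊗[A] M j) j =>
      Theta.theta (ev Φ (M j)) K (z j)) := by
    constructor
    · intro z z' e
      funext j
      exact (h (M j)).1 (congrFun e j)
    · intro y
      choose z hz using fun j => (h (M j)).2 (y j)
      exact ⟨z, funext hz⟩
  have key : ∀ z, cmp Φ K M (Theta.theta (ev Φ (∀ j, M j)) K z) =
      fun j => Theta.theta (ev Φ (M j)) K (TensorProduct.piRightHom A A _ M z j) := by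
    intro z
    funext j
    rw [cmp, theta_ev_map]
    congr 1
    induction z using TensorProduct.induction_on with
    | zero => simp
    | add x y hx hy => rw [map_add, map_add, hx, hy]; rfl
    | tmul f x => simp
  have h4 : Function.Bijective (cmp Φ K M ∘ Theta.theta (ev Φ (∀ j, M j)) K) := by
    have : cmp Φ K M ∘ Theta.theta (ev Φ (∀ j, M j)) K =
        (fun (z : ∀ j, (K ⟶ Φ.obj (ModuleCat.of A A)) ⊗[A] M j) j =>
          Theta.theta (ev Φ (M j)) K (z j)) ∘ TensorProduct.piRightHom A A _ M := funext key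
    rw [this]
    exact h3.comp h2
  exact (Function.Bijective.of_comp_iff _ h1).1 h4

end Main

section Cover

variable {A : Type u} [CommRing A] {J : Type u} {M F : J → Type u} [∀ j, AddCommGroup (M j)]
  [∀ j, Module A (M j)] [∀ j, AddCommGroup (F j)] [∀ j, Module A (F j)] (p : ∀ j, F j →ₗ[A] M j)

/-- The inclusion of the product of the kernels. -/
def prodI : (∀ j, LinearMap.ker (p j)) →ₗ[A] (∀ j, F j) :=
  LinearMap.pi (fun j => (LinearMap.ker (p j)).subtype ∘ₗ LinearMap.proj j)

/-- The product of the maps. -/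
def prodP : (∀ j, F j) →ₗ[A] (∀ j, M j) := LinearMap.pi (fun j => p j ∘ₗ LinearMap.proj j)

theorem exact_prod : Function.Exact (prodI p) (prodP p) := by
  intro x
  constructor
  · intro hx
    exact ⟨fun j => ⟨x j, congrFun hx j⟩, rfl⟩
  · rintro ⟨k, rfl⟩
    funext j
    exact (k j).2

theorem shortExact_prod (hp : ∀ j, Function.Surjective (p j)) :
    (sc (prodI p) (prodP p) (exact_prod p)).ShortExact :=
  sc_shortExact _ _ _ (fun _ _ e => funext fun j => Subtype.ext (congrFun e j))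
    (fun m => ⟨fun j => (hp j (m j)).choose, funext fun j => (hp j (m j)).choose_spec⟩)

theorem shortExact_ker (hp : ∀ j, Function.Surjective (p j)) (j : J) :
    (sc (LinearMap.ker (p j)).subtype (p j) (LinearMap.exact_subtype_ker_map _)).ShortExact :=
  sc_shortExact _ _ _ Subtype.val_injective (hp j)

/-- The projection of short exact sequences. -/
noncomputable def proj (j : J) :
    sc (prodI p) (prodP p) (exact_prod p) ⟶
      sc (LinearMap.ker (p j)).subtype (p j) (LinearMap.exact_subtype_ker_map _) where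
  τ₁ := ModuleCat.ofHom (LinearMap.proj j)
  τ₂ := ModuleCat.ofHom (LinearMap.proj j)
  τ₃ := ModuleCat.ofHom (LinearMap.proj j)

end Cover

section Tri

variable {A : Type u} [CommRing A] {C : Type w} [Category.{v} C] [Preadditive C]
  [HasZeroObject C] [HasShift C ℤ] [∀ n : ℤ, (shiftFunctor C n).Additive] [Pretriangulated C]
  (Φ : ModuleCat.{u} A ⥤ C)

/-- `Φ` sends short exact sequences to distinguished triangles, functorially. -/
structure TriData where
  /-- the connecting morphism -/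
  δ : ∀ {S : ShortComplex (ModuleCat.{u} A)}, S.ShortExact → (Φ.obj S.X₃ ⟶ (Φ.obj S.X₁)⟦(1 : ℤ)⟧)
  dist : ∀ {S : ShortComplex (ModuleCat.{u} A)} (hS : S.ShortExact),
    Triangle.mk (Φ.map S.f) (Φ.map S.g) (δ hS) ∈ distTriang C
  nat : ∀ {S S' : ShortComplex (ModuleCat.{u} A)} (hS : S.ShortExact) (hS' : S'.ShortExact) (φ : S ⟶ S'),
    Φ.map φ.τ₃ ≫ δ hS' = δ hS ≫ (Φ.map φ.τ₁)⟦(1 : ℤ)⟧'

/-- The comparison for `Hom(K, (Φ -)⟦1⟧)`. -/
def cmp1 (K : C) {J : Type u} (M : J → Type u) [∀ j, AddCommGroup (M j)] [∀ j, Module A (M j)]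
    (y : K ⟶ (Φ.obj (ModuleCat.of A (∀ j, M j)))⟦(1 : ℤ)⟧) (j : J) :
    K ⟶ (Φ.obj (ModuleCat.of A (M j)))⟦(1 : ℤ)⟧ :=
  y ≫ (Φ.map (ModuleCat.ofHom (LinearMap.proj j : (∀ j, M j) →ₗ[A] M j)))⟦(1 : ℤ)⟧'

/-- `Hom(K, (Φ -)⟦1⟧)` commutes with products. -/
def Pr1 (K : C) : Prop :=
  ∀ (J : Type u) (M : J → Type u) [∀ j, AddCommGroup (M j)] [∀ j, Module A (M j)],
    Function.Bijective (cmp1 Φ K M)

omit [Preadditive C] [HasZeroObject C] [∀ n : ℤ, (shiftFunctor C n).Additive] [Pretriangulated C] in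
theorem pr1_of_pr {K : C} (h : Pr Φ (K⟦(-1 : ℤ)⟧)) : Pr1 Φ K := by
  intro J M _ _
  let adj := (shiftEquiv' C (-1 : ℤ) 1 (by norm_num)).toAdjunction
  let e : ∀ N : ModuleCat.{u} A, (K⟦(-1 : ℤ)⟧ ⟶ Φ.obj N) ≃ (K ⟶ (Φ.obj N)⟦(1 : ℤ)⟧) := fun N =>
    adj.homEquiv K (Φ.obj N)
  have he : ∀ {N N' : ModuleCat.{u} A} (g : N ⟶ N') (y : K⟦(-1 : ℤ)⟧ ⟶ Φ.obj N),
      e N' (y ≫ Φ.map g) = e N y ≫ (Φ.map g)⟦(1 : ℤ)⟧' := fun g y =>
    adj.homEquiv_naturality_right y (Φ.map g)
  have h1 := h J M
  constructor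
  · intro y y' hyy
    obtain ⟨y, rfl⟩ := (e _).surjective y
    obtain ⟨y', rfl⟩ := (e _).surjective y'
    congr 1
    apply h1.1
    funext j
    apply (e _).injective
    rw [cmp, cmp, he, he]
    exact congrFun hyy j
  · intro z
    obtain ⟨y, hy⟩ := h1.2 (fun j => (e _).symm (z j))
    refine ⟨e _ y, ?_⟩
    funext j
    have := congrArg (e _) (congrFun hy j)
    rw [cmp, he, Equiv.apply_symm_apply] at this
    exact this

variable {Φ}

section Step

variable (D : TriData Φ) {K : C} {J : Type u} {M F : J → Type u} [∀ j, AddCommGroup (M j)]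
  [∀ j, Module A (M j)] [∀ j, AddCommGroup (F j)] [∀ j, Module A (F j)] (p : ∀ j, F j →ₗ[A] M j)
  (hp : ∀ j, Function.Surjective (p j))

omit [HasShift C ℤ] [HasZeroObject C] [∀ n : ℤ, (shiftFunctor C n).Additive] [Pretriangulated C]
  [Preadditive C] in
theorem map_proj (j : J) :
    Φ.map (ModuleCat.ofHom (prodI p)) ≫ Φ.map (ModuleCat.ofHom (LinearMap.proj j : (∀ j, F j) →ₗ[A] F j)) =
      Φ.map (ModuleCat.ofHom (LinearMap.proj j : (∀ j, LinearMap.ker (p j)) →ₗ[A] _)) ≫
        Φ.map (ModuleCat.ofHom (LinearMap.ker (p j)).subtype) := by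
  rw [← Φ.map_comp, ← Φ.map_comp]; rfl

omit [HasShift C ℤ] [HasZeroObject C] [∀ n : ℤ, (shiftFunctor C n).Additive] [Pretriangulated C]
  [Preadditive C] in
theorem map_proj' (j : J) :
    Φ.map (ModuleCat.ofHom (prodP p)) ≫ Φ.map (ModuleCat.ofHom (LinearMap.proj j : (∀ j, M j) →ₗ[A] M j)) =
      Φ.map (ModuleCat.ofHom (LinearMap.proj j : (∀ j, F j) →ₗ[A] F j)) ≫ Φ.map (ModuleCat.ofHom (p j)) := by
  rw [← Φ.map_comp, ← Φ.map_comp]; rfl

include D hp in
theorem cmp_surjective [∀ j, Module.Flat A (F j)] (hf : PrFlat Φ K) (h1 : Pr1 Φ K) :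
    Function.Surjective (cmp Φ K M) := by
  intro y
  obtain ⟨z, hz⟩ := (h1 J (fun j => LinearMap.ker (p j))).2 (fun j => y j ≫ D.δ (shortExact_ker p hp j))
  have hz' : ∀ j, z ≫ (Φ.map (ModuleCat.ofHom (LinearMap.proj j :
      (∀ j, LinearMap.ker (p j)) →ₗ[A] LinearMap.ker (p j))))⟦(1 : ℤ)⟧' = y j ≫ D.δ (shortExact_ker p hp j) :=
    fun j => congrFun hz j
  have hz0 : z ≫ (Φ.map (ModuleCat.ofHom (prodI p)))⟦(1 : ℤ)⟧' = 0 := by
    apply (h1 J F).1
    funext j
    have e2 := congrArg (fun t => t⟦(1 : ℤ)⟧') (map_proj (Φ := Φ) p j)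
    simp only [Functor.map_comp] at e2
    have e4 : D.δ (shortExact_ker p hp j) ≫
        (Φ.map (ModuleCat.ofHom (LinearMap.ker (p j)).subtype))⟦(1 : ℤ)⟧' = 0 :=
      comp_distTriang_mor_zero₃₁ _ (D.dist (shortExact_ker p hp j))
    rw [cmp1, cmp1, zero_comp, Category.assoc, e2, reassoc_of% (hz' j), e4, comp_zero]
  obtain ⟨y', hy'⟩ : ∃ y' : K ⟶ Φ.obj (ModuleCat.of A (∀ j, M j)), z = y' ≫ D.δ (shortExact_prod p hp) :=
    Triangle.coyoneda_exact₁ _ (D.dist (shortExact_prod p hp)) z hz0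
  have hw : ∀ j, ∃ w : K ⟶ Φ.obj (ModuleCat.of A (F j)),
      y j - cmp Φ K M y' j = w ≫ Φ.map (ModuleCat.ofHom (p j)) := by
    intro j
    refine Triangle.coyoneda_exact₃ _ (D.dist (shortExact_ker p hp j)) _ ?_
    have e5 := D.nat (shortExact_prod p hp) (shortExact_ker p hp j) (proj p j)
    change (y j - cmp Φ K M y' j) ≫ D.δ (shortExact_ker p hp j) = 0
    have e6 : cmp Φ K M y' j ≫ D.δ (shortExact_ker p hp j) = y j ≫ D.δ (shortExact_ker p hp j) := by
      rw [← hz' j, hy', cmp, Category.assoc, Category.assoc]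
      exact congrArg (fun t => y' ≫ t) e5
    rw [Preadditive.sub_comp, e6, sub_self]
  choose w hw using hw
  obtain ⟨w', hw'⟩ := (hf J F).2 w
  refine ⟨y' + w' ≫ Φ.map (ModuleCat.ofHom (prodP p)), ?_⟩
  funext j
  have e7 : (w' ≫ Φ.map (ModuleCat.ofHom (prodP p))) ≫
      Φ.map (ModuleCat.ofHom (LinearMap.proj j : (∀ j, M j) →ₗ[A] M j)) = y j - cmp Φ K M y' j := by
    rw [Category.assoc, map_proj', hw j, ← congrFun hw' j, cmp, Category.assoc]
  rw [cmp, Preadditive.add_comp, e7, cmp]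
  abel

include D hp in
theorem cmp_injective [∀ j, Module.Flat A (F j)] (hf : PrFlat Φ K) (h1 : Pr1 Φ K)
    (hs : Function.Surjective (cmp Φ K (fun j => LinearMap.ker (p j)))) :
    ∀ y, cmp Φ K M y = 0 → y = 0 := by
  intro y hy
  have h3 : y ≫ D.δ (shortExact_prod p hp) = 0 := by
    apply (h1 J (fun j => LinearMap.ker (p j))).1
    funext j
    have e5 := D.nat (shortExact_prod p hp) (shortExact_ker p hp j) (proj p j)
    have e6 : y ≫ Φ.map (ModuleCat.ofHom (LinearMap.proj j : (∀ j, M j) →ₗ[A] M j)) = 0 := congrFun hy j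
    rw [cmp1, cmp1, zero_comp, Category.assoc]
    refine (congrArg (fun t => y ≫ t) e5).symm.trans ?_
    exact (reassoc_of% e6) _ |>.trans zero_comp
  obtain ⟨w, rfl⟩ : ∃ w : K ⟶ Φ.obj (ModuleCat.of A (∀ j, F j)), y = w ≫ Φ.map (ModuleCat.ofHom (prodP p)) :=
    Triangle.coyoneda_exact₃ _ (D.dist (shortExact_prod p hp)) _ h3
  have hk : ∀ j, ∃ k : K ⟶ Φ.obj (ModuleCat.of A (LinearMap.ker (p j))),
      w ≫ Φ.map (ModuleCat.ofHom (LinearMap.proj j : (∀ j, F j) →ₗ[A] F j)) =
        k ≫ Φ.map (ModuleCat.ofHom (LinearMap.ker (p j)).subtype) := by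
    intro j
    refine Triangle.coyoneda_exact₂ _ (D.dist (shortExact_ker p hp j)) _ ?_
    have := congrFun hy j
    rw [cmp, Category.assoc, map_proj'] at this
    exact (Category.assoc _ _ _).trans this
  choose k hk using hk
  obtain ⟨k', hk'⟩ := hs k
  have h5 : w = k' ≫ Φ.map (ModuleCat.ofHom (prodI p)) := by
    apply (hf J F).1
    funext j
    rw [cmp, cmp, Category.assoc, map_proj, hk j, ← congrFun hk' j, cmp, Category.assoc]
  have h6 : Φ.map (ModuleCat.ofHom (prodI p)) ≫ Φ.map (ModuleCat.ofHom (prodP p)) = 0 :=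
    comp_distTriang_mor_zero₁₂ _ (D.dist (shortExact_prod p hp))
  rw [h5, Category.assoc, h6, comp_zero]

end Step

/-- The inductive step. -/
theorem pr_of_flat (D : TriData Φ) {K : C} (hf : PrFlat Φ K) (h1 : Pr1 Φ K) : Pr Φ K := by
  have surj : ∀ (J : Type u) (M : J → Type u) [∀ j, AddCommGroup (M j)] [∀ j, Module A (M j)],
      Function.Surjective (cmp Φ K M) := by
    intro J M _ _
    exact cmp_surjective D (fun j => Finsupp.linearCombination A (id : M j → M j))
      (fun j m => ⟨Finsupp.single m 1, by simp⟩) hf h1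
  intro J M _ _
  refine ⟨fun y y' e => ?_, surj J M⟩
  rw [← sub_eq_zero]
  refine cmp_injective D (fun j => Finsupp.linearCombination A (id : M j → M j))
      (fun j m => ⟨Finsupp.single m 1, by simp⟩) hf h1 (surj _ _) _ ?_
  funext j
  have := congrFun e j
  simp only [cmp] at this ⊢
  rw [Preadditive.sub_comp, this, sub_self]
  rfl

/-- **Products.** -/
theorem pr_of_bounded (D : TriData Φ) (K : C) (b : ℕ)
    (hf : ∀ n : ℕ, PrFlat Φ (K⟦(-n : ℤ)⟧))
    (hb : ∀ (n : ℕ), b ≤ n → ∀ N : ModuleCat.{u} A, Subsingleton (K⟦(-n : ℤ)⟧ ⟶ Φ.obj N)) :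
    Pr Φ (K⟦(-(0 : ℕ) : ℤ)⟧) := by
  have key : ∀ m : ℕ, ∀ n : ℕ, b ≤ n + m → Pr Φ (K⟦(-n : ℤ)⟧) := by
    intro m
    induction m with
    | zero =>
      intro n hn J M _ _
      have h1 := hb n (by omega) (ModuleCat.of A (∀ j, M j))
      have h2 := fun j => hb n (by omega) (ModuleCat.of A (M j))
      exact ⟨fun y y' _ => Subsingleton.elim y y', fun y => ⟨0, funext fun j => (h2 j).elim _ _⟩⟩
    | succ m ih =>
      intro n hn
      have h1 := ih (n + 1) (by omega)
      refine pr_of_flat D (hf n) (pr1_of_pr Φ ?_)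
      have e : (K⟦(-n : ℤ)⟧)⟦(-1 : ℤ)⟧ ≅ K⟦(-((n + 1 : ℕ) : ℤ))⟧ :=
        ((shiftFunctorAdd' C (-n : ℤ) (-1) (-((n + 1 : ℕ) : ℤ)) (by push_cast; ring)).app K).symm
      intro J M _ _
      have h2 := h1 J M
      constructor
      · intro y y' hyy
        have h3 : e.inv ≫ y = e.inv ≫ y' := by
          apply h2.1
          funext j
          have := congrFun hyy j
          simp only [cmp] at this ⊢
          rw [Category.assoc, Category.assoc, this]
        exact (cancel_epi e.inv).1 h3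
      · intro z
        obtain ⟨y, hy⟩ := h2.2 (fun j => e.inv ≫ z j)
        refine ⟨e.hom ≫ y, funext fun j => ?_⟩
        have := congrFun hy j
        simp only [cmp] at this ⊢
        rw [Category.assoc, this, e.hom_inv_id_assoc]
  exact key b 0 (by omega)

end Tri

end Groth.Agent.ModSt.K599.ProdFun
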