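import Groth.Agent.ModSt.K599.RepMain
import Groth.Agent.ModSt.K174.Supp
import Groth.Agent.PerfC.SuppRed

/-!
# The schemes of homomorphisms and isomorphisms, target with proper support, affine base
-/

set_option autoImplicit false
universe u
open CategoryTheory CategoryTheory.Limits AlgebraicGeometry Opposite TopologicalSpace

open Groth.Agent Groth.Agent.ModSt.K599

namespace K599.RepSupp

open K599.LMod K599.Rep K599.IsoRep K599.RepBC K599.RepMain K927.ModSt

/-- The support of `E` is contained in a closed subscheme proper over the base. -/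
def Supp {X U : Scheme.{u}} (f : X ⟶ U) (E : X.Modules) : Prop :=
  ∃ (Z : Scheme.{u}) (i : Z ⟶ X), IsClosedImmersion i ∧ IsProper (i ≫ f) ∧ CohB1.support E ⊆ Set.range i.base

/-- **The scheme of homomorphisms**, target with proper support, affine base. -/
theorem exists_homRep_supp {X U : Scheme.{u}} [IsAffine U] (f : X ⟶ U)
    [LocallyOfFinitePresentation f] (E G : X.Modules) (hE : CohB1.IsFP E) (hG : CohB1.IsFP G)
    (hGf : FlatMod.IsFlatOver f G) (hs : Supp f G) :
    ∃ R : HomRep f E G, IsAffineHom R.z ∧ LocallyOfFinitePresentation R.z := by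
  obtain ⟨W, i, hi, hlfp, hp, -, hu⟩ := Groth.Agent.K174.Supp.exists_supp f G hG hs
  have hunit : IsIso ((Scheme.Modules.pullbackPushforwardAdjunction i).unit.app G) :=
    hu (𝟙 X) i (𝟙 W) (IsPullback.of_horiz_isIso ⟨by simp⟩) G ⟨((Scheme.Modules.pullbackId X).app G).symm⟩
  have hfl : FlatMod.IsFlatOver (i ≫ f) ((Scheme.Modules.pullback i).obj G) :=
    PerfC.SuppRed.isFlatOver_of_pushforward i f _
      (Models2.FPCoh.isQCoh_of_isFP (FormalA.PullbackQC.isFP_pullback _ G hG))
      (Models2.FlatIso.isFlatOver_of_iso f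
        (asIso ((Scheme.Modules.pullbackPushforwardAdjunction i).unit.app G)) hGf)
  obtain ⟨R, h1, h2⟩ := exists_homRep (i ≫ f) ((Scheme.Modules.pullback i).obj E)
    ((Scheme.Modules.pullback i).obj G) (FormalA.PullbackQC.isFP_pullback _ E hE)
    (FormalA.PullbackQC.isFP_pullback _ G hG) hfl
  obtain ⟨R', hR'⟩ := exists_of_closed i hu R
  exact ⟨R', hR' @IsAffineHom h1, hR' @LocallyOfFinitePresentation h2⟩

/-- **The scheme of isomorphisms**, modules with proper support, affine base. -/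
theorem exists_isoRep_supp {X U : Scheme.{u}} [IsAffine U] (f : X ⟶ U)
    [LocallyOfFinitePresentation f] (E₁ E₂ : X.Modules) (h₁ : CohB1.IsFP E₁) (h₂ : CohB1.IsFP E₂)
    (hf₁ : FlatMod.IsFlatOver f E₁) (hf₂ : FlatMod.IsFlatOver f E₂) (hs₁ : Supp f E₁) (hs₂ : Supp f E₂) :
    ∃ R : IsoR f E₁ E₂, IsAffineHom R.z ∧ LocallyOfFinitePresentation R.z := by
  obtain ⟨R12, a12, b12⟩ := exists_homRep_supp f E₂ E₁ h₂ h₁ hf₁ hs₁
  obtain ⟨R21, a21, b21⟩ := exists_homRep_supp f E₁ E₂ h₁ h₂ hf₂ hs₂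
  obtain ⟨R11, a11, b11⟩ := exists_homRep_supp f E₁ E₁ h₁ h₁ hf₁ hs₁
  obtain ⟨R22, a22, b22⟩ := exists_homRep_supp f E₂ E₂ h₂ h₂ hf₂ hs₂
  exact IsoRep.exists_isoRep R12 R21 R11 R22

end K599.RepSupp
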